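import Groth.Agent.LefPen24.IdealFamily
import Groth.Agent.Coherent.ProjSpaceCoh
import Groth.Agent.SerreDual.Mul
import Groth.Agent.AmpleLib.FTIdeal
import Groth.Agent.Coherent.QcohOps
import Groth.Prelude.Def_LefPen

/-!
# The ideal sheaf of a hypersurface of `P^r_k`

* `ideal_hypIdeal`: on every affine open it is the family of sections locally divisible by the equations;
* `ideal_hypIdeal_chart`: on `D_+(T_j)` it is generated by `G / T_j^d`;
* `hypMul`, `nonempty_idealMod_iso`: as a module it is `O(-d)`, for `G ≠ 0`.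
-/

set_option autoImplicit false
set_option backward.isDefEq.respectTransparency.types false

universe u

open CategoryTheory CategoryTheory.Limits AlgebraicGeometry Opposite TopologicalSpace
open Groth.Agent.Coherent Groth.Agent.AmpleLib Groth.Agent.PicLib

namespace Groth.Agent.LefPen24

variable {r : ℕ} {k : Type u} [Field k] {d : ℕ}

local notation "𝒫" => CohB1.polyGrading r k

instance isSeparated_projSpace : (CohB1.ProjSpace r k).IsSeparated :=
  inferInstanceAs (Proj (CohB1.polyGrading r k)).IsSeparated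

theorem isAffineOpen_chart (i : Fin (r + 1)) : IsAffineOpen (LefPen.chart r k i) :=
  Proj.isAffineOpen_basicOpen _ _ (LefPen.X_mem r k i) one_pos

theorem hypFamily_eq (G : LefPen.Form r k d) (U : (CohB1.ProjSpace r k).affineOpens) :
    LefPen.hypFamily G U = famIdeal (LefPen.chart r k) (LefPen.dehom G) U.1 := rfl

theorem ideal_hypIdeal (G : LefPen.Form r k d) (U : (CohB1.ProjSpace r k).affineOpens) :
    (LefPen.hypIdeal G).ideal U = famIdeal (LefPen.chart r k) (LefPen.dehom G) U.1 :=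
  congrFun (ideal_ofIdeals_famIdeal (LefPen.chart r k) (LefPen.dehom G) isAffineOpen_chart) U

/-- The value of a function at a point. -/
noncomputable abbrev secVal {U : (CohB1.ProjSpace r k).Opens} (s : Γ(CohB1.ProjSpace r k, U)) (x : (U : Opens (ProjectiveSpectrum.top 𝒫))) :
    Twist.Loc 𝒫 x.1 :=
  ((show Twist.O (𝒜 := 𝒫) (op U) from s).1 x).val

theorem sec_ext {U : (CohB1.ProjSpace r k).Opens} {s t : Γ(CohB1.ProjSpace r k, U)}
    (h : ∀ x : (U : Opens (ProjectiveSpectrum.top 𝒫)), secVal s x = secVal t x) : s = t :=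
  Subtype.ext (funext fun x => HomogeneousLocalization.val_injective _ (h x))

theorem secVal_res {U W : (CohB1.ProjSpace r k).Opens} (h : W ≤ U) (s : Γ(CohB1.ProjSpace r k, U))
    (x : (W : Opens (ProjectiveSpectrum.top 𝒫))) : secVal (res h s) x = secVal s ⟨x.1, h x.2⟩ := rfl

theorem secVal_mul {U : (CohB1.ProjSpace r k).Opens} (s t : Γ(CohB1.ProjSpace r k, U)) (x : (U : Opens (ProjectiveSpectrum.top 𝒫))) :
    secVal (s * t) x = secVal s x * secVal t x := HomogeneousLocalization.val_mul _ _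

theorem X_pow_notMem {i : Fin (r + 1)} {x : ProjectiveSpectrum.top 𝒫}
    (hx : x ∈ LefPen.chart r k i) (n : ℕ) :
    (MvPolynomial.X i : MvPolynomial (Fin (r + 1)) k) ^ n ∈ x.asHomogeneousIdeal.toIdeal.primeCompl :=
  Submonoid.pow_mem _ hx n

theorem secVal_dehom (G : LefPen.Form r k d) (i : Fin (r + 1))
    (x : (LefPen.chart r k i : Opens (ProjectiveSpectrum.top 𝒫))) :
    secVal (LefPen.dehom G i) x =
      Localization.mk G.1 ⟨MvPolynomial.X i ^ d, X_pow_notMem x.2 d⟩ :=
  val_awayToSection_mk (LefPen.X_mem r k i) d G.1 _ x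

/-- `T_i^d` as a form. -/
noncomputable def powForm (i : Fin (r + 1)) (d : ℕ) : LefPen.Form r k d :=
  ⟨MvPolynomial.X i ^ d, pow_mem_deg (LefPen.X_mem r k i) d⟩

theorem res_dehom_mul (G : LefPen.Form r k d) (i j : Fin (r + 1)) {W : (CohB1.ProjSpace r k).Opens}
    (hi : W ≤ LefPen.chart r k i) (hj : W ≤ LefPen.chart r k j) :
    res hj (LefPen.dehom (powForm i d) j) * res hi (LefPen.dehom G i) = res hj (LefPen.dehom G j) := by
  refine sec_ext fun x => ?_
  rw [secVal_mul, secVal_res, secVal_res, secVal_res, secVal_dehom, secVal_dehom, secVal_dehom,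
    Localization.mk_mul]
  exact Localization.mk_eq_mk_iff.2 (Localization.r_iff_exists.2 ⟨1, by
    simp only [powForm, Submonoid.coe_mul, Submonoid.coe_one]; ring⟩)

theorem dehom_mem (G : LefPen.Form r k d) (j : Fin (r + 1)) :
    LefPen.dehom G j ∈ famIdeal (LefPen.chart r k) (LefPen.dehom G) (LefPen.chart r k j) := by
  rw [mem_famIdeal]
  exact fun i => ⟨res inf_le_left (LefPen.dehom (powForm i d) j),
    res_dehom_mul G i j inf_le_right inf_le_left⟩

/-- Below a chart the family is principal. -/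
theorem famIdeal_eq_span (G : LefPen.Form r k d) (j : Fin (r + 1)) {W : (CohB1.ProjSpace r k).Opens}
    (hW : W ≤ LefPen.chart r k j) :
    famIdeal (LefPen.chart r k) (LefPen.dehom G) W = Ideal.span {res hW (LefPen.dehom G j)} := by
  refine le_antisymm (fun x hx => ?_)
    (Ideal.span_le.2 (Set.singleton_subset_iff.2 (res_mem_famIdeal _ _ hW (dehom_mem G j))))
  obtain ⟨c, hc⟩ := mem_famIdeal _ _ |>.1 hx j
  rw [Ideal.mem_span_singleton']
  refine ⟨res (le_inf le_rfl hW) c, ?_⟩
  have h := congrArg (res (le_inf le_rfl hW)) hc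
  rwa [map_mul, res_res, res_res, res_self] at h

/-- On `D_+(T_j)` the ideal is generated by `G / T_j^d`. -/
theorem ideal_hypIdeal_chart (G : LefPen.Form r k d) (j : Fin (r + 1)) :
    (LefPen.hypIdeal G).ideal ⟨LefPen.chart r k j, isAffineOpen_chart j⟩ =
      Ideal.span {LefPen.dehom G j} :=
  (ideal_hypIdeal G _).trans ((famIdeal_eq_span G j le_rfl).trans (by rw [res_self]))

/-! ### The module -/

/-- `O(-d) → O(0)`, multiplication by `G`. -/
noncomputable def hypMulZero (G : LefPen.Form r k d) :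
    Twist.twistProjSpace r k (-(d : ℤ)) ⟶ Twist.twistProjSpace r k 0 :=
  SerreDual.mulHom (𝒜 := CohB1.polyGrading r k) G (by omega)

/-- `O(-d) → O`, multiplication by `G`. -/
noncomputable def hypMul (G : LefPen.Form r k d) :
    Twist.twistProjSpace r k (-(d : ℤ)) ⟶ Coh.structureModule (CohB1.ProjSpace r k) :=
  hypMulZero G ≫ inv (toTwistZero r k)

theorem secVal_hypMul (G : LefPen.Form r k d) (W : (CohB1.ProjSpace r k).Opens)
    (s : Γ(Twist.twistProjSpace r k (-(d : ℤ)), W)) (x : (W : Opens (ProjectiveSpectrum.top 𝒫))) :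
    secVal ((hypMul G).app W s) x =
      Localization.mk G.1 1 * ((show Twist.sectN (𝒜 := 𝒫) (-(d : ℤ)) (op W) from s).1 x).1 := by
  refine (toTwistZero_app_val r k W ((hypMul G).app W s) x).symm.trans ?_
  have h : (toTwistZero r k).app W ((hypMul G).app W s) = (hypMulZero G).app W s := by
    rw [← ConcreteCategory.comp_apply, ← Scheme.Modules.Hom.comp_app, hypMul, Category.assoc,
      IsIso.inv_hom_id, Category.comp_id]
  rw [h]
  exact SerreDual.mulHom_app_val _ _ W s x

/-- `1 / T_j^d`. -/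
noncomputable def invPow (j : Fin (r + 1)) (d : ℕ) {W : (CohB1.ProjSpace r k).Opens} (hW : W ≤ LefPen.chart r k j) :
    Γ(Twist.twistProjSpace r k (-(d : ℤ)), W) :=
  tauSec (LefPen.X_mem r k j) (-(d : ℤ)) W hW

theorem invPow_val (j : Fin (r + 1)) {W : (CohB1.ProjSpace r k).Opens} (hW : W ≤ LefPen.chart r k j)
    (x : (W : Opens (ProjectiveSpectrum.top 𝒫))) :
    ((show Twist.sectN (𝒜 := 𝒫) (-(d : ℤ)) (op W) from invPow j d hW).1 x).1 =
      Localization.mk 1 ⟨MvPolynomial.X j ^ d, X_pow_notMem (hW x.2) d⟩ := by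
  refine (tauSec_val (LefPen.X_mem r k j) (-(d : ℤ)) W hW x).trans ?_
  refine Localization.mk_eq_mk_iff.2 (Localization.r_iff_exists.2 ⟨1, ?_⟩)
  simp

theorem hypMul_invPow (G : LefPen.Form r k d) (j : Fin (r + 1)) {W : (CohB1.ProjSpace r k).Opens}
    (hW : W ≤ LefPen.chart r k j) (c : Γ(CohB1.ProjSpace r k, W)) :
    (hypMul G).app W (c • invPow j d hW) = c * res hW (LefPen.dehom G j) := by
  refine sec_ext fun x => ?_
  rw [secVal_hypMul, secVal_mul, secVal_res, secVal_dehom]
  refine (congrArg (Localization.mk G.1 1 * ·)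
    (oSmul_val (show Twist.O (𝒜 := 𝒫) (op W) from c)
      (show Twist.sectN (𝒜 := 𝒫) (-(d : ℤ)) (op W) from invPow j d hW) x)).trans ?_
  rw [invPow_val, mul_left_comm, Localization.mk_mul, mul_one, one_mul]

theorem mono_hypMul (G : LefPen.Form r k d) (hG : G ≠ 0) : Mono (hypMul G) := by
  refine Preadditive.mono_of_cancel_zero _ fun {Q} g hg => Scheme.Modules.hom_ext _ _ fun W =>
    ConcreteCategory.hom_ext _ _ fun a => ?_
  refine sectN_ext (d := -(d : ℤ)) fun x => ?_
  have h := secVal_hypMul G W (g.app W a) x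
  have h0 : (hypMul G).app W (g.app W a) = 0 :=
    congrArg (fun ψ : Q ⟶ Coh.structureModule (CohB1.ProjSpace r k) => ψ.app W a) hg
  rw [h0] at h
  have hG0 : G.1 ≠ 0 := fun h => hG (Subtype.ext h)
  obtain ⟨⟨a', s'⟩, hq⟩ := IsLocalization.surj x.1.asHomogeneousIdeal.toIdeal.primeCompl
    ((show Twist.sectN (𝒜 := 𝒫) (-(d : ℤ)) (op W) from g.app W a).1 x).1
  have hinj := IsLocalization.injective (Twist.Loc 𝒫 x.1)
    x.1.asHomogeneousIdeal.toIdeal.primeCompl_le_nonZeroDivisors
  have hne : (Localization.mk G.1 1 : Twist.Loc 𝒫 x.1) ≠ 0 := by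
    rw [Localization.mk_one_eq_algebraMap]
    exact fun h => hG0 (hinj (h.trans (map_zero _).symm))
  exact (mul_eq_zero.1 (h.symm.trans HomogeneousLocalization.val_zero)).resolve_left hne

theorem subschemeι_app_hypMul (G : LefPen.Form r k d) (W : (CohB1.ProjSpace r k).Opens)
    (s : Γ(Twist.twistProjSpace r k (-(d : ℤ)), W)) :
    (LefPen.hypIdeal G).subschemeι.app W ((hypMul G).app W s) = 0 := by
  let Z := LefPen.hypIdeal G
  let F : TopCat.Sheaf Ab Z.subscheme :=
    ⟨(Coh.structureModule Z.subscheme).presheaf, (Coh.structureModule Z.subscheme).isSheaf⟩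
  refine TopCat.Presheaf.section_ext F _ _ _ fun z hz => ?_
  obtain ⟨j, hj⟩ := Opens.mem_iSup.1 ((ProjLib.iSup_basicOpen_X r k).ge (Set.mem_univ (Z.subschemeι z)))
  obtain ⟨V, hV, hzV, hVW⟩ := exists_isAffineOpen_mem_and_subset (x := Z.subschemeι z)
    (U := W ⊓ LefPen.chart r k j) ⟨hz, hj⟩
  have hVW' : V ≤ W := fun w hw => (hVW hw).1
  have hVj : V ≤ LefPen.chart r k j := fun w hw => (hVW hw).2
  obtain ⟨c₀, hc⟩ := (smul_tauSec_bijective (LefPen.X_mem r k j) (-(d : ℤ)) V hVj).2
    (show Twist.sectN (𝒜 := 𝒫) (-(d : ℤ)) (op V) from resM _ hVW' s)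
  let c : Γ(CohB1.ProjSpace r k, V) := c₀
  have hc' : c • invPow j d hVj = resM (Twist.twistProjSpace r k (-(d : ℤ))) hVW' s := hc
  have h0 : c * res hVj (LefPen.dehom G j) ∈ RingHom.ker (Z.subschemeι.app V).hom := by
    rw [Scheme.IdealSheafData.ker_subschemeι_app Z ⟨V, hV⟩, ideal_hypIdeal, famIdeal_eq_span G j hVj]
    exact Ideal.mem_span_singleton'.2 ⟨c, rfl⟩
  have h1 : (Z.subschemeι.app V) (resM (Coh.structureModule (CohB1.ProjSpace r k)) hVW'
      ((hypMul G).app W s)) = 0 := by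
    rw [← app_resM, ← hc', hypMul_invPow]
    exact RingHom.mem_ker.1 h0
  have hle : Z.subschemeι ⁻¹ᵁ V ≤ Z.subschemeι ⁻¹ᵁ W := fun w hw => hVW' hw
  have h2 := (ConcreteCategory.congr_hom (Z.subschemeι.naturality (homOfLE hVW').op)
    ((hypMul G).app W s)).symm.trans h1
  refine (TopCat.Presheaf.germ_res_apply F.presheaf (homOfLE hle) z hzV _).symm.trans ?_
  refine Eq.trans ?_ (TopCat.Presheaf.germ_res_apply F.presheaf (homOfLE hle) z hzV 0)
  refine congrArg (F.presheaf.germ _ z hzV) (h2.trans ?_)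
  exact (map_zero _).symm

theorem hypMul_toSubscheme (G : LefPen.Form r k d) :
    hypMul G ≫ ClSub.toSubscheme (LefPen.hypIdeal G) = 0 :=
  Scheme.Modules.hom_ext _ _ fun W => ConcreteCategory.hom_ext _ _ fun s =>
    subschemeι_app_hypMul G W s

/-- `O(-d) → I`. -/
noncomputable def toIdealMod (G : LefPen.Form r k d) :
    Twist.twistProjSpace r k (-(d : ℤ)) ⟶ ClSub.idealMod (LefPen.hypIdeal G) :=
  kernel.lift (ClSub.toSubscheme (LefPen.hypIdeal G)) (hypMul G) (hypMul_toSubscheme G)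

theorem toIdealMod_ι (G : LefPen.Form r k d) :
    toIdealMod G ≫ ClSub.idealModι (LefPen.hypIdeal G) = hypMul G := kernel.lift_ι _ _ _

theorem isIso_toIdealMod (G : LefPen.Form r k d) (hG : G ≠ 0) : IsIso (toIdealMod G) := by
  haveI := mono_hypMul G hG
  haveI : Mono (toIdealMod G ≫ ClSub.idealModι (LefPen.hypIdeal G)) := by
    rw [toIdealMod_ι]; infer_instance
  haveI : Mono (toIdealMod G) := mono_of_mono _ (ClSub.idealModι (LefPen.hypIdeal G))
  haveI := mono_idealModι (LefPen.hypIdeal G)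
  haveI : Epi (toIdealMod G) := by
    refine epi_of_locally_surjective _ fun W a y hy => ?_
    obtain ⟨j, hj⟩ := Opens.mem_iSup.1 ((ProjLib.iSup_basicOpen_X r k).ge (Set.mem_univ y))
    obtain ⟨V, hV, hyV, hVW⟩ := exists_isAffineOpen_mem_and_subset (x := y)
      (U := W ⊓ LefPen.chart r k j) ⟨hy, hj⟩
    have hVW' : V ≤ W := fun w hw => (hVW hw).1
    have hVj : V ≤ LefPen.chart r k j := fun w hw => (hVW hw).2
    have h1 : (show Γ(CohB1.ProjSpace r k, V) from (ClSub.idealModι (LefPen.hypIdeal G)).app V (resM _ hVW' a)) ∈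
        Ideal.span {res hVj (LefPen.dehom G j)} := by
      rw [← famIdeal_eq_span G j hVj, ← ideal_hypIdeal G ⟨V, hV⟩,
        ← Scheme.IdealSheafData.ker_subschemeι_app, RingHom.mem_ker]
      exact (mem_range_idealModι _ V _).1 ⟨_, rfl⟩
    obtain ⟨c, hc⟩ := Ideal.mem_span_singleton'.1 h1
    refine ⟨V, hVW', hyV, c • invPow j d hVj,
      app_injective_of_mono (ClSub.idealModι (LefPen.hypIdeal G)) V ?_⟩
    rw [← ConcreteCategory.comp_apply, ← Scheme.Modules.Hom.comp_app, toIdealMod_ι, hypMul_invPow]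
    exact hc
  exact isIso_of_mono_of_epi _

/-- The ideal of a hypersurface of degree `d` is `O(-d)`. -/
theorem nonempty_idealMod_iso (G : LefPen.Form r k d) (hG : G ≠ 0) :
    Nonempty (ClSub.idealMod (LefPen.hypIdeal G) ≅ Twist.twistProjSpace r k (-(d : ℤ))) :=
  haveI := isIso_toIdealMod G hG
  ⟨(asIso (toIdealMod G)).symm⟩

end Groth.Agent.LefPen24
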