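import Groth.Agent.LefPen24.PlaneCurve
import Groth.Agent.TwistLib.G.QCoh
import Groth.Agent.DimLib.ProjUFD
import Groth.Agent.DimLib.Morphism
import Groth.Agent.HopfLib.PseudoRefl
import Groth.Agent.CurveRR24.BCField
import Groth.Agent.CurveLib.ProjLine

/-!
# Integral curves in `P^r` as hypersurfaces

`ker_eq_hypIdeal`: an integral closed subscheme whose homogeneous prime is `(G)` is `V₊(G)`;
`exists_form`: an integral curve in `P²` is `V₊(G)` for a prime form `G`.
-/

set_option autoImplicit false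
set_option linter.style.haveILetI false
set_option backward.isDefEq.respectTransparency.types false

universe u

open CategoryTheory CategoryTheory.Limits AlgebraicGeometry Opposite TopologicalSpace HomogeneousLocalization

namespace Groth.Agent.LefPen24

variable {r : ℕ} {k : Type u} [Field k] {X : Scheme.{u}} [IsIntegral X] (i : X ⟶ CohB1.ProjSpace r k)

local notation "S" => MvPolynomial (Fin (r + 1)) k
local notation "𝒫" => CohB1.polyGrading r k

/-- The point of the image of the generic point. -/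
noncomputable def imagePt : ProjectiveSpectrum (CohB1.polyGrading r k) := i (genericPoint X)

/-- The homogeneous prime of the image. -/
noncomputable def imagePrime : Ideal (MvPolynomial (Fin (r + 1)) k) :=
  (imagePt i).asHomogeneousIdeal.toIdeal

theorem isPrime_imagePrime : (imagePrime i).IsPrime := (imagePt i).isPrime

theorem app_away_eq_zero_iff (j : Fin (r + 1)) (n : ℕ) (a : S) (ha : a ∈ CohB1.polyGrading r k (n • 1)) :
    i.app (LefPen.chart r k j) ((Proj.awayToSection 𝒫 (MvPolynomial.X j)).hom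
        (Away.mk 𝒫 (LefPen.X_mem r k j) n a ha)) = 0 ↔
      MvPolynomial.X j * a ∈ imagePrime i := by
  rw [← basicOpen_eq_bot_iff, ← Scheme.preimage_basicOpen]
  erw [TwistLib.G.basicOpen_away (LefPen.X_mem r k j) n a ha]
  constructor
  · intro h
    by_contra hne
    have hmem : genericPoint X ∈ i ⁻¹ᵁ Proj.basicOpen 𝒫 (MvPolynomial.X j * a) := hne
    rw [h] at hmem
    exact hmem
  · intro h
    refine eq_bot_iff.2 fun z hz => ?_
    exact absurd h (((genericPoint_spec X).mem_open_set_iff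
      (i ⁻¹ᵁ Proj.basicOpen 𝒫 (MvPolynomial.X j * a)).2).2 ⟨z, trivial, hz⟩ :)

/-- Membership in the prime of the image, on a chart. -/
theorem mem_imagePrime_iff {d : ℕ} (G : LefPen.Form r k d) (j : Fin (r + 1)) {W : X.Opens}
    (hW : W ≤ i ⁻¹ᵁ LefPen.chart r k j) {P : X} (hP : P ∈ W) :
    (G : S) ∈ imagePrime i ↔
      X.presheaf.germ W P hP (i.appLE (LefPen.chart r k j) W hW (LefPen.dehom G j)) = 0 := by
  have hj : (MvPolynomial.X j : S) ∉ imagePrime i :=
    ((genericPoint_spec X).mem_open_set_iff (i ⁻¹ᵁ LefPen.chart r k j).2).2 ⟨P, trivial, hW hP⟩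
  have h1 : X.presheaf.germ W P hP (i.appLE (LefPen.chart r k j) W hW (LefPen.dehom G j)) =
      X.presheaf.germ (i ⁻¹ᵁ LefPen.chart r k j) P (hW hP) (i.app (LefPen.chart r k j) (LefPen.dehom G j)) :=
    X.presheaf.germ_res_apply (homOfLE hW) P hP _
  rw [h1, map_eq_zero_iff _ (germ_injective_of_isIntegral X P (hW hP))]
  refine Iff.trans ?_ (app_away_eq_zero_iff i j d G.1 _).symm
  exact ⟨fun h => Ideal.mul_mem_left _ _ h,
    fun h => ((isPrime_imagePrime i).mem_or_mem h).resolve_left hj⟩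

/-- An integral closed subscheme with prime `(G)` is the hypersurface `V₊(G)`. -/
theorem ker_eq_hypIdeal [QuasiCompact i] {d : ℕ} (G : LefPen.Form r k d) (hG : G ≠ 0)
    (hp : imagePrime i = Ideal.span {(G : S)}) : i.ker = LefPen.hypIdeal G := by
  refine Scheme.IdealSheafData.ext_of_iSup_eq_top
    (fun j => (⟨LefPen.chart r k j, isAffineOpen_chart j⟩ : (CohB1.ProjSpace r k).affineOpens))
    (ProjLib.iSup_basicOpen_X r k) fun j => ?_
  rw [ideal_hypIdeal_chart, Scheme.Hom.ker_apply]
  refine le_antisymm (fun x hx => ?_) (Ideal.span_le.2 (Set.singleton_subset_iff.2 ?_))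
  · obtain ⟨q, rfl⟩ := (ConcreteCategory.bijective_of_isIso
      (Proj.basicOpenIsoAway 𝒫 (MvPolynomial.X j) (LefPen.X_mem r k j) one_pos).hom).2 x
    obtain ⟨n, a, ha, rfl⟩ := Away.mk_surjective 𝒫 (LefPen.X_mem r k j) q
    have hmem := (app_away_eq_zero_iff i j n a ha).1 hx
    rw [hp, Ideal.mem_span_singleton'] at hmem
    obtain ⟨c, hc⟩ := hmem
    have han : a.IsHomogeneous n := by simpa using ha
    have hGh : (G : S).IsHomogeneous d := G.2
    have hX : (MvPolynomial.X j * a).IsHomogeneous (1 + n) := (MvPolynomial.isHomogeneous_X k j).mul han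
    have hG0 : (G : S) ≠ 0 := fun h => hG (Subtype.ext h)
    have hXj : (MvPolynomial.X j : S) ≠ 0 := MvPolynomial.X_ne_zero j
    by_cases hc0 : c = 0
    · have ha0 : a = 0 := by
        rw [hc0, zero_mul] at hc
        exact (mul_eq_zero.1 hc.symm).resolve_left hXj
      subst ha0
      have h0 : Away.mk 𝒫 (LefPen.X_mem r k j) n (0 : S) ha = 0 :=
        val_injective _ (by rw [Away.val_mk, val_zero, Localization.mk_zero])
      rw [h0]
      exact (map_zero ((Proj.basicOpenIsoAway 𝒫 (MvPolynomial.X j) (LefPen.X_mem r k j) one_pos).hom).hom).symm ▸ zero_mem _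
    obtain ⟨e, hce⟩ : ∃ e, c.IsHomogeneous e := by
      have h : ((G : S) * c).IsHomogeneous (1 + n) := by rw [mul_comm, hc]; exact hX
      have ht := congrArg MvPolynomial.totalDegree hc
      rw [hX.totalDegree (mul_ne_zero hXj fun ha0 => mul_ne_zero hc0 hG0 (by rw [hc, ha0, mul_zero])),
        MvPolynomial.totalDegree_mul_of_isDomain hc0 hG0, hGh.totalDegree hG0] at ht
      exact ⟨_, HopfLib.isHomogeneous_of_mul hGh hG0 (by omega) h⟩
    have hde : e + d = 1 + n := (hce.mul hGh).inj_right (hc ▸ hX) (mul_ne_zero hc0 hG0)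
    have hmk : Away.mk 𝒫 (LefPen.X_mem r k j) n a ha =
        Away.mk 𝒫 (LefPen.X_mem r k j) e c (by simpa using hce) *
          Away.mk 𝒫 (LefPen.X_mem r k j) d (G : S) (by simpa using hGh) := by
      refine val_injective _ ?_
      rw [val_mul, Away.val_mk, Away.val_mk, Away.val_mk, Localization.mk_mul]
      refine Localization.mk_eq_mk_iff.2 (Localization.r_iff_exists.2 ⟨1, ?_⟩)
      simp only [Submonoid.coe_mul, Submonoid.coe_one, one_mul]
      rw [hc, ← pow_add, hde, pow_add, pow_one]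
      ring
    rw [hmk]
    refine Ideal.mem_span_singleton'.2 ⟨_, (map_mul ((Proj.basicOpenIsoAway 𝒫 (MvPolynomial.X j)
      (LefPen.X_mem r k j) one_pos).hom).hom _ _).symm⟩
  · exact (app_away_eq_zero_iff i j d G.1 _).2
      (Ideal.mul_mem_left _ _ (hp ▸ Ideal.mem_span_singleton_self _))

/-- The isomorphism with the hypersurface. -/
theorem exists_iso_hyp [IsClosedImmersion i] {d : ℕ} (G : LefPen.Form r k d) (hG : G ≠ 0)
    (hp : imagePrime i = Ideal.span {(G : S)}) :
    ∃ e : X ≅ (LefPen.hypIdeal G).subscheme, e.hom ≫ (LefPen.hypIdeal G).subschemeι = i := by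
  rw [← ker_eq_hypIdeal i G hG hp]
  exact ⟨asIso i.toImage, i.toImage_imageι⟩

theorem exists_generator [IsClosedImmersion i]
    (hdim : topologicalKrullDim X = ((r - 1 : ℕ) : WithBot ℕ∞)) (hr : 1 ≤ r) :
    ∃ (d : ℕ) (G : LefPen.Form r k d), 1 ≤ d ∧ G ≠ 0 ∧ imagePrime i = Ideal.span {(G : S)} := by
  haveI : IrreducibleSpace X := inferInstance
  let f := i ≫ CohB1.ProjSpace.toSpec r k
  have h1 := DimLib.topologicalKrullDim_eq_ptDim_genericPoint f
  rw [hdim, DimLib.ptDim_comp_preimmersion] at h1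
  have h1' : DimLib.ptDim (CohB1.ProjSpace.toSpec r k) (i (genericPoint X)) = r - 1 := by exact_mod_cast h1.symm
  have h2 := DimLib.PN.ptDim_add_one (imagePt i)
  have h3 : DimLib.ptDim (CohB1.ProjSpace.toSpec r k) (DimLib.PN.pt (imagePt i)) = r - 1 := h1'
  have h4 : DimLib.PN.cdim (imagePrime i) = r := by
    show DimLib.PN.cdim (imagePt i).asHomogeneousIdeal.toIdeal = r
    omega
  have hne : imagePrime i ≠ ⊥ := fun h => by
    rw [h, DimLib.PN.cdim_bot] at h4
    omega
  obtain ⟨q, hq, hspan, -⟩ := DimLib.PN.exists_prime_span (isPrime_imagePrime i) hne h4.ge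
  have hh := DimLib.PN.isHomogeneous_generator hq.ne_zero
    (hspan ▸ (imagePt i).asHomogeneousIdeal.isHomogeneous)
  refine ⟨q.totalDegree, ⟨q, hh⟩, ?_, fun h => hq.ne_zero (congrArg Subtype.val h), hspan⟩
  by_contra hlt
  rw [not_le, Nat.lt_one_iff] at hlt
  obtain ⟨c, hc⟩ : ∃ c, q = MvPolynomial.C c :=
    ⟨_, (MvPolynomial.totalDegree_eq_zero_iff_eq_C.1 hlt)⟩
  exact hq.not_unit (hc ▸ (IsUnit.mk0 c (fun h => hq.ne_zero (by rw [hc, h, map_zero]))).map MvPolynomial.C)

/-- An integral curve of genus one in the plane is the zero locus of a cubic form. -/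
theorem exists_cubic {k : Type u} [Field k] {X : Scheme.{u}} [IsIntegral X] [X.Over (Spec (CommRingCat.of k))]
    (i : X ⟶ CohB1.ProjSpace 2 k) [IsClosedImmersion i]
    (hi : i ≫ CohB1.ProjSpace.toSpec 2 k = X ↘ Spec (CommRingCat.of k))
    (hdim : topologicalKrullDim X = 1) (hg : Curv2.genus k X = 1) :
    ∃ G : LefPen.Form 2 k 3, G ≠ 0 ∧ imagePrime i = Ideal.span {(G : MvPolynomial (Fin (2 + 1)) k)} := by
  obtain ⟨d, G, hd, hG, hp⟩ := exists_generator i (by rw [hdim]; rfl) (by norm_num)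
  obtain ⟨e, he⟩ := exists_iso_hyp i G hG hp
  let C := (LefPen.hypIdeal G).subscheme
  let _ : C.Over (Spec (CommRingCat.of k)) := ⟨(LefPen.hypIdeal G).subschemeι ≫ CohB1.ProjSpace.toSpec 2 k⟩
  obtain ⟨-, h1⟩ := finrank_planeCurve G hG hd (inst := ⟨(LefPen.hypIdeal G).subschemeι ≫ CohB1.ProjSpace.toSpec 2 k⟩) rfl
  have hpb : IsPullback e.hom (X ↘ Spec (CommRingCat.of k)) (C ↘ Spec (CommRingCat.of k))
      (Spec.map (CommRingCat.ofHom (algebraMap k k))) := by
    rw [show CommRingCat.ofHom (algebraMap k k) = 𝟙 _ from rfl, Spec.map_id]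
    refine IsPullback.of_horiz_isIso ⟨?_⟩
    rw [Category.comp_id, ← hi, ← he, Category.assoc]
    rfl
  haveI : IsProper (CohB1.ProjSpace.toSpec 2 k) := CurveLib.isProper_projSpace k 2
  haveI : IsProper (C ↘ Spec (CommRingCat.of k)) :=
    inferInstanceAs (IsProper ((LefPen.hypIdeal G).subschemeι ≫ CohB1.ProjSpace.toSpec 2 k))
  haveI := EulerLib.isNoetherian_of_proper k (X := C)
  have hcho : (d - 1).choose 2 = 1 := (h1.symm.trans ((CurveRR24.genus_bc hpb).symm.trans hg) :)
  obtain rfl : d = 3 := by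
    by_contra h3
    rcases lt_or_gt_of_ne h3 with h | h
    · rw [Nat.choose_eq_zero_of_lt (by omega)] at hcho; omega
    · have := Nat.choose_le_choose 2 (show 3 ≤ d - 1 by omega)
      rw [hcho] at this
      norm_num at this
  exact ⟨G, hG, hp⟩

end Groth.Agent.LefPen24
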