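import Groth.Agent.LefPen24.HypIdeal
import Groth.Agent.EmbLib24.Coord

/-!
# `G / T_j^d` as `G` evaluated at the coordinate functions
-/

set_option autoImplicit false
set_option backward.isDefEq.respectTransparency.types false

universe u

open CategoryTheory AlgebraicGeometry Opposite TopologicalSpace HomogeneousLocalization

namespace Groth.Agent.LefPen24

theorem eval₂_mul_of_isHomogeneous {σ : Type*} {R T : Type*} [CommSemiring R] [CommSemiring T]
    (f : R →+* T) (g : σ → T) (t : T) {φ : MvPolynomial σ R} {d : ℕ} (hφ : φ.IsHomogeneous d) :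
    MvPolynomial.eval₂ f (fun l => g l * t) φ = t ^ d * MvPolynomial.eval₂ f g φ := by
  rw [MvPolynomial.eval₂_eq, MvPolynomial.eval₂_eq, Finset.mul_sum]
  refine Finset.sum_congr rfl fun s hs => ?_
  have hd : ∑ i ∈ s.support, s i = d := by
    have := hφ (MvPolynomial.mem_support_iff.1 hs)
    rw [Finsupp.weight_apply, Finsupp.sum] at this
    simpa using this
  simp only [mul_pow, Finset.prod_mul_distrib, Finset.prod_pow_eq_pow_sum, hd]
  ring

variable {r : ℕ} {k : Type u} [Field k] {d : ℕ}

local notation "𝒫" => CohB1.polyGrading r k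

theorem dehom_eq_eval₂ (G : LefPen.Form r k d) (j : Fin (r + 1)) :
    LefPen.dehom G j = MvPolynomial.eval₂ (EmbLib24.gl (CohB1.ProjSpace.toSpec r k) (LefPen.chart r k j))
      (EmbLib24.coordFun r k j) G.1 := by
  let A := Away (CohB1.polyGrading r k) (MvPolynomial.X j : MvPolynomial (Fin (r + 1)) k)
  let χ : A →+* Γ(CohB1.ProjSpace r k, LefPen.chart r k j) :=
    (Proj.awayToSection (CohB1.polyGrading r k) (MvPolynomial.X j)).hom
  have hgl : EmbLib24.gl (CohB1.ProjSpace.toSpec r k) (LefPen.chart r k j) =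
      χ.comp (EmbLib24.awayConst r k j) := RingHom.ext fun c => (EmbLib24.awayToSection_const r k j c).symm
  rw [hgl, show EmbLib24.coordFun r k j = ⇑χ ∘ EmbLib24.coordFrac r k j from rfl,
    ← MvPolynomial.eval₂_comp_left]
  refine congrArg χ (val_injective _ ?_)
  let S := MvPolynomial (Fin (r + 1)) k
  let Lc := Localization.Away (MvPolynomial.X j : S)
  let v : A →+* Lc := algebraMap A Lc
  show _ = v _
  rw [MvPolynomial.eval₂_comp_left v]
  let t : Lc := Localization.mk 1 ⟨MvPolynomial.X j, 1, pow_one _⟩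
  have h1 : v.comp (EmbLib24.awayConst r k j) = (algebraMap S Lc).comp MvPolynomial.C :=
    RingHom.ext fun c => by
      show (HomogeneousLocalization.fromZeroRingHom (CohB1.polyGrading r k) _ (algebraMap k _ c)).val = _
      exact Localization.mk_one_eq_algebraMap (MvPolynomial.C c : S)
  have h2 : (⇑v ∘ EmbLib24.coordFrac r k j) = fun l => algebraMap S Lc (MvPolynomial.X l) * t :=
    funext fun l => by
      show (EmbLib24.coordFrac r k j l).val = _
      rw [EmbLib24.coordFrac, Away.val_mk, ← Localization.mk_one_eq_algebraMap, Localization.mk_mul]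
      congr 1
      · rw [mul_one]
  rw [h1, h2, eval₂_mul_of_isHomogeneous _ _ _ G.2,
    show MvPolynomial.eval₂ ((algebraMap S Lc).comp MvPolynomial.C)
      (fun l => algebraMap S Lc (MvPolynomial.X l)) G.1 = algebraMap S Lc G.1 by
      rw [show (fun l => algebraMap S Lc (MvPolynomial.X l)) = ⇑(algebraMap S Lc) ∘ MvPolynomial.X from rfl,
        ← MvPolynomial.eval₂_comp_left (algebraMap S Lc), MvPolynomial.eval₂_eta],
    ← Localization.mk_one_eq_algebraMap, Away.val_mk, Localization.mk_pow, Localization.mk_mul]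
  congr 1
  · rw [one_pow, one_mul]
  · exact Subtype.ext (by simp)

/-- A pulled back equation is the form evaluated at the pulled back coordinates. -/
theorem appLE_dehom {X : Scheme.{u}} {f : X ⟶ CohB1.ProjSpace r k} {q : X ⟶ Spec (CommRingCat.of k)}
    (hf : f ≫ CohB1.ProjSpace.toSpec r k = q) (G : LefPen.Form r k d) (j : Fin (r + 1)) {W : X.Opens}
    (hW : W ≤ f ⁻¹ᵁ LefPen.chart r k j) :
    f.appLE (LefPen.chart r k j) W hW (LefPen.dehom G j) = MvPolynomial.eval₂ (EmbLib24.gl q W)
      (fun l => f.appLE (LefPen.chart r k j) W hW (EmbLib24.coordFun r k j l)) G.1 := by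
  rw [dehom_eq_eval₂]
  refine (MvPolynomial.eval₂_comp_left (f.appLE (LefPen.chart r k j) W hW).hom _ _ _).trans ?_
  rw [show (f.appLE (LefPen.chart r k j) W hW).hom.comp (EmbLib24.gl (CohB1.ProjSpace.toSpec r k) (LefPen.chart r k j)) =
    EmbLib24.gl q W from RingHom.ext fun c => EmbLib24.appLE_gl hf hW c]
  rfl

end Groth.Agent.LefPen24
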