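import Groth.Agent.LefPen24.HypIdeal
import Groth.Agent.CurveRR24.Sky
import Groth.Agent.SerreDual.PushEquiv
import Groth.Agent.SerreDual.ExtLocFree
import Groth.Agent.GrLib.Hilbert
import Groth.Agent.NeronLib.ProjLine

/-!
# Cohomology of the structure sheaf of a plane curve

`finrank_quot_zero`, `finrank_quot_one`: `h⁰ = 1` and `h¹ = C(d-1, 2)` for `O_P/(G)` on `P²`;
`connectedSpace_of_finrank`.
-/

set_option autoImplicit false
set_option linter.style.haveILetI false
set_option backward.isDefEq.respectTransparency.types false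

universe u

open CategoryTheory CategoryTheory.Limits AlgebraicGeometry Opposite TopologicalSpace
open Groth.Agent.Coherent Groth.Agent.EulerLib Groth.Agent.CurveRR24

namespace Groth.Agent.LefPen24

/-- A scheme over a field with `h⁰(O) = 1` is connected. -/
theorem connectedSpace_of_finrank (k : Type u) [Field k] {X : Scheme.{u}}
    [X.Over (Spec (CommRingCat.of k))]
    (h : Module.finrank k (Coh.HH X (Coh.structureModule X) 0) = 1) : ConnectedSpace X := by
  rw [(hhZero k (Coh.structureModule X)).finrank_eq] at h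
  have hne : Nonempty X := by
    by_contra hn
    rw [not_nonempty_iff] at hn
    haveI : Subsingleton Γ(X, ⊤) := CommRingCat.subsingleton_of_isTerminal (by
      rw [show (⊤ : X.Opens) = ⊥ from Opens.ext (Set.eq_empty_of_isEmpty _)]
      exact X.sheaf.isTerminalOfEmpty)
    haveI : Subsingleton (GA (baseHom k X) (Coh.structureModule X)) :=
      (inferInstanceAs (Subsingleton Γ(X, ⊤)))
    rw [Module.finrank_zero_of_subsingleton] at h
    exact zero_ne_one h
  obtain ⟨x₀⟩ := hne
  haveI : Nonempty (⊤ : X.Opens) := ⟨⟨x₀, trivial⟩⟩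
  have h1 : (show GA (baseHom k X) (Coh.structureModule X) from (1 : Γ(X, ⊤))) ≠ 0 :=
    fun he => one_ne_zero (α := Γ(X, ⊤)) he
  have hspan : ∀ e : Γ(X, ⊤), ∃ c : k, baseHom k X c = e := fun e => by
    obtain ⟨c, hc⟩ := exists_smul_eq_of_finrank_eq_one h h1
      (show GA (baseHom k X) (Coh.structureModule X) from e)
    exact ⟨c, (mul_one _).symm.trans hc⟩
  refine { isPreconnected_univ := ?_, toNonempty := ⟨x₀⟩ }
  suffices h2 : PreconnectedSpace X from h2.isPreconnected_univ
  refine preconnectedSpace_iff_clopen.2 fun s hs => ?_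
  let U : X.Opens := ⟨s, hs.2⟩
  let V : X.Opens := ⟨sᶜ, hs.1.isOpen_compl⟩
  let W : ULift.{u} Bool → X.Opens := fun b => if b.down then U else V
  let sf : ∀ b, Γ(X, W b) := fun b =>
    match b with
    | ⟨true⟩ => (1 : Γ(X, U))
    | ⟨false⟩ => (0 : Γ(X, V))
  have hcompat : TopCat.Presheaf.IsCompatible X.presheaf W sf := by
    have hsub : Subsingleton Γ(X, U ⊓ V) := CommRingCat.subsingleton_of_isTerminal (by
      rw [show U ⊓ V = ⊥ from Opens.ext (Set.inter_compl_self s)]
      exact X.sheaf.isTerminalOfEmpty)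
    have hsub' : Subsingleton Γ(X, V ⊓ U) := inf_comm U V ▸ hsub
    rintro ⟨_ | _⟩ ⟨_ | _⟩
    · rfl
    · exact hsub'.elim _ _
    · exact hsub.elim _ _
    · rfl
  obtain ⟨e, he, -⟩ := X.sheaf.existsUnique_gluing' W ⊤ (fun _ => homOfLE le_top)
    (fun z _ => by
      by_cases hz : z ∈ s
      · exact Opens.mem_iSup.2 ⟨⟨true⟩, hz⟩
      · exact Opens.mem_iSup.2 ⟨⟨false⟩, hz⟩) sf hcompat
  obtain ⟨c, rfl⟩ := hspan e
  rcases eq_or_ne c 0 with rfl | hc
  · refine Or.inl (Set.eq_empty_of_forall_notMem fun z hz => ?_)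
    have h01 := he ⟨true⟩
    rw [map_zero] at h01
    haveI : Subsingleton Γ(X, U) := subsingleton_of_zero_eq_one ((map_zero _).symm.trans h01)
    exact not_subsingleton (X.presheaf.stalk z) (subsingleton_of_zero_eq_one (by
      rw [← map_zero (X.presheaf.germ U z hz).hom, ← map_one (X.presheaf.germ U z hz).hom,
        Subsingleton.elim (0 : Γ(X, U)) 1]))
  · refine Or.inr (Set.eq_univ_of_forall fun z => ?_)
    by_contra hz
    have h01 := he ⟨false⟩
    have hu : IsUnit (X.presheaf.germ V z hz (0 : Γ(X, V))) := by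
      rw [show (0 : Γ(X, V)) = _ from h01.symm]
      exact (((IsUnit.mk0 c hc).map (baseHom k X)).map (X.presheaf.map _).hom).map
        (X.presheaf.germ V z hz).hom
    rw [map_zero] at hu
    exact not_isUnit_zero hu

/-! ### Plane curves -/

variable {k : Type u} [Field k]

local notation "P2" => CohB1.ProjSpace 2 k

noncomputable local instance overP2 : (CohB1.ProjSpace 2 k).Over (Spec (CommRingCat.of k)) :=
  inferInstance

theorem finrank_twist_zero :
    Module.finrank k (Coh.HH P2 (Twist.twistProjSpace 2 k 0) 0) = 1 := by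
  obtain ⟨e⟩ := Groth.Agent.Coherent.nonempty_HH_zero_twist (n := 2) (R := k) 0
  rw [show (0 : ℤ) = ((0 : ℕ) : ℤ) from rfl, e.finrank_eq, GrLib.finrank_homogeneous]
  rfl

theorem finrank_twist_two {d : ℕ} (hd : 1 ≤ d) :
    Module.finrank k (Coh.HH P2 (Twist.twistProjSpace 2 k (-(d : ℤ))) 2) = (d - 1).choose 2 := by
  by_cases h3 : 3 ≤ d
  · obtain ⟨e⟩ := Groth.Agent.Coherent.nonempty_HH_top_twist (n := 2) (R := k) (d - 3)
    rw [show (-(d : ℤ)) = -(((2 : ℕ) : ℤ) + 1 + ((d - 3 : ℕ) : ℤ)) by omega, e.finrank_eq,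
      GrLib.finrank_homogeneous, show 2 + (d - 3) = d - 1 by omega]
  · haveI := subsingleton_HH_twist (n := 2) (R := k) (d := -(d : ℤ)) 2 (by omega) (by omega)
    rw [Module.finrank_zero_of_subsingleton, Nat.choose_eq_zero_of_lt (by omega)]

variable {d : ℕ} (G : LefPen.Form 2 k d)

theorem subsingleton_HH_idealMod (hG : G ≠ 0) (hd : 1 ≤ d) {q : ℕ} (hq : q ≠ 2) :
    Subsingleton (Coh.HH P2 (ClSub.idealMod (LefPen.hypIdeal G)) q) := by
  haveI := subsingleton_HH_twist (n := 2) (R := k) (d := -(d : ℤ)) q (by omega) (by omega)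
  obtain ⟨e⟩ := nonempty_idealMod_iso G hG
  exact (SerreDual.hmapIso k e q).toEquiv.subsingleton

theorem finrank_quot (hG : G ≠ 0) (hd : 1 ≤ d) :
    Module.finrank k (Coh.HH P2 (ClSub.quotMod (LefPen.hypIdeal G)) 0) = 1 ∧
      Module.finrank k (Coh.HH P2 (ClSub.quotMod (LefPen.hypIdeal G)) 1) = (d - 1).choose 2 := by
  let I := LefPen.hypIdeal G
  have hS := shortExact_ideal I
  let φ := baseHom k P2
  have hI : ∀ q, q ≠ 2 → Subsingleton (HA φ (ClSub.idealMod I) (⊤ : (P2).Opens) q) := fun q hq =>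
    haveI := subsingleton_HH_idealMod G hG hd hq
    (HHBaseEquiv k (ClSub.idealMod I) q).symm.toEquiv.subsingleton
  have hO : ∀ q, 0 < q → Subsingleton (HA φ (Coh.structureModule P2) (⊤ : (P2).Opens) q) := fun q hq =>
    haveI := subsingleton_HH_structureModule 2 k q hq
    (HHBaseEquiv k (Coh.structureModule P2) q).symm.toEquiv.subsingleton
  haveI := hI 0 (by omega)
  haveI := hI 1 (by omega)
  haveI := hO 1 one_pos
  haveI := hO 2 two_pos
  constructor
  · have hinj : Function.Injective (postA φ (ClSub.toSubscheme I) (⊤ : (P2).Opens) 0) :=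
      (injective_iff_map_eq_zero _).2 fun x hx => by
        obtain ⟨y, rfl⟩ := (exact_postA φ hS ⊤ 0 x).1 hx
        rw [Subsingleton.elim y 0, map_zero]
    have hsurj : Function.Surjective (postA φ (ClSub.toSubscheme I) (⊤ : (P2).Opens) 0) :=
      fun z => (exact_postA_deltaA φ hS ⊤ 0 z).1 (Subsingleton.elim _ _)
    rw [(HHBaseEquiv k _ 0).finrank_eq, ← (LinearEquiv.ofBijective _ ⟨hinj, hsurj⟩).finrank_eq,
      ← (HHBaseEquiv k _ 0).finrank_eq,
      (SerreDual.hmapIso k (asIso (toTwistZero 2 k)) 0).finrank_eq, finrank_twist_zero]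
  · have hinj : Function.Injective (deltaA φ hS (⊤ : (P2).Opens) 1) :=
      (injective_iff_map_eq_zero _).2 fun x hx => by
        obtain ⟨y, rfl⟩ := (exact_postA_deltaA φ hS ⊤ 1 x).1 hx
        rw [Subsingleton.elim y 0, map_zero]
    have hsurj : Function.Surjective (deltaA φ hS (⊤ : (P2).Opens) 1) :=
      fun z => (exact_deltaA_postA φ hS ⊤ 1 z).1 (Subsingleton.elim _ _)
    obtain ⟨e⟩ := nonempty_idealMod_iso G hG
    rw [(HHBaseEquiv k _ 1).finrank_eq, (LinearEquiv.ofBijective _ ⟨hinj, hsurj⟩).finrank_eq,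
      ← (HHBaseEquiv k (ClSub.idealMod I) 2).finrank_eq, (SerreDual.hmapIso k e 2).finrank_eq,
      finrank_twist_two hd]

/-- `h⁰` and `h¹` of the structure sheaf of a plane curve. -/
theorem finrank_planeCurve (hG : G ≠ 0) (hd : 1 ≤ d)
    [inst : ((LefPen.hypIdeal G).subscheme).Over (Spec (CommRingCat.of k))]
    (hinst : (LefPen.hypIdeal G).subscheme ↘ (Spec (CommRingCat.of k)) =
      (LefPen.hypIdeal G).subschemeι ≫ CohB1.ProjSpace.toSpec 2 k) :
    Module.finrank k (Coh.HH (LefPen.hypIdeal G).subscheme (Coh.structureModule (LefPen.hypIdeal G).subscheme) 0) = 1 ∧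
      Module.finrank k (Coh.HH (LefPen.hypIdeal G).subscheme (Coh.structureModule (LefPen.hypIdeal G).subscheme) 1) = (d - 1).choose 2 := by
  haveI : Coh.IsQCoh (Coh.structureModule (LefPen.hypIdeal G).subscheme) := isQCoh_structureModule
  obtain ⟨h0, h1⟩ := finrank_quot G hG hd
  have e := fun q => SerreDual.hpush (LefPen.hypIdeal G).subschemeι k
    (hinst.symm) (Coh.structureModule (LefPen.hypIdeal G).subscheme) q
  exact ⟨(e 0).finrank_eq.trans h0, (e 1).finrank_eq.trans h1⟩

end Groth.Agent.LefPen24
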