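import Mathlib.RingTheory.MvPolynomial.Homogeneous
import Mathlib.RingTheory.Ideal.Maximal
import Mathlib.Tactic.LinearCombination
import Mathlib.Tactic.IntervalCases

/-!
# Ternary cubic forms vanishing at `(π a : 1 : π³ b)`
-/

set_option autoImplicit false
set_option maxHeartbeats 1000000

universe u v

namespace Groth.Agent.LefPen24

open MvPolynomial

theorem cubic_eq {R : Type u} [CommRing R] (G : MvPolynomial (Fin (2 + 1)) R) (hG : G.IsHomogeneous 3) :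
    ∃ p q r s t o v w x y : R,
      G = C p * X 0 ^ 3 + C q * X 0 ^ 2 * X 1 + C r * X 0 ^ 2 * X 2 + C s * X 0 * X 1 ^ 2 +
        C t * X 0 * X 1 * X 2 + C o * X 0 * X 2 ^ 2 + C v * X 1 ^ 3 + C w * X 1 ^ 2 * X 2 +
        C x * X 1 * X 2 ^ 2 + C y * X 2 ^ 3 := by
  classical
  let P : MvPolynomial (Fin (2 + 1)) R → Prop := fun F => ∃ p q r s t o v w x y : R,
      F = C p * X 0 ^ 3 + C q * X 0 ^ 2 * X 1 + C r * X 0 ^ 2 * X 2 + C s * X 0 * X 1 ^ 2 +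
        C t * X 0 * X 1 * X 2 + C o * X 0 * X 2 ^ 2 + C v * X 1 ^ 3 + C w * X 1 ^ 2 * X 2 +
        C x * X 1 * X 2 ^ 2 + C y * X 2 ^ 3
  show P G
  rw [G.as_sum]
  refine Finset.sum_induction _ P ?_ ⟨0, 0, 0, 0, 0, 0, 0, 0, 0, 0, by simp⟩ fun m hm => ?_
  · rintro _ _ ⟨p, q, r, s, t, o, v, w, x, y, rfl⟩ ⟨p', q', r', s', t', o', v', w', x', y', rfl⟩
    exact ⟨p + p', q + q', r + r', s + s', t + t', o + o', v + v', w + w', x + x', y + y',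
      by simp only [map_add]; ring⟩
  have h3 : m 0 + m 1 + m 2 = 3 := by
    have h := hG (mem_support_iff.1 hm)
    rw [Finsupp.weight_apply, Finsupp.sum_fintype _ _ (fun i => by simp)] at h
    simpa [Fin.sum_univ_three] using h
  generalize coeff m G = c
  rw [monomial_eq, Finsupp.prod_fintype _ _ (fun i => pow_zero _),
    show ∏ i : Fin (2 + 1), (X i : MvPolynomial (Fin (2 + 1)) R) ^ m i =
      X 0 ^ m 0 * X 1 ^ m 1 * X 2 ^ m 2 from Fin.prod_univ_three _]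
  obtain ⟨i, hi⟩ : ∃ i, m 0 = i := ⟨_, rfl⟩
  obtain ⟨j, hj⟩ : ∃ j, m 1 = j := ⟨_, rfl⟩
  have hl : m 2 = 3 - i - j := by omega
  rw [hi, hj, hl]
  have : i ≤ 3 := by omega
  have : j ≤ 3 - i := by omega
  interval_cases i
  · interval_cases j
    · exact ⟨0, 0, 0, 0, 0, 0, 0, 0, 0, c, by simp⟩
    · exact ⟨0, 0, 0, 0, 0, 0, 0, 0, c, 0, by simp; ring⟩
    · exact ⟨0, 0, 0, 0, 0, 0, 0, c, 0, 0, by simp; ring⟩
    · exact ⟨0, 0, 0, 0, 0, 0, c, 0, 0, 0, by simp⟩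
  · interval_cases j
    · exact ⟨0, 0, 0, 0, 0, c, 0, 0, 0, 0, by simp; ring⟩
    · exact ⟨0, 0, 0, 0, c, 0, 0, 0, 0, 0, by simp; ring⟩
    · exact ⟨0, 0, 0, c, 0, 0, 0, 0, 0, 0, by simp; ring⟩
  · interval_cases j
    · exact ⟨0, 0, c, 0, 0, 0, 0, 0, 0, 0, by simp; ring⟩
    · exact ⟨0, c, 0, 0, 0, 0, 0, 0, 0, 0, by simp; ring⟩
  · interval_cases j
    exact ⟨c, 0, 0, 0, 0, 0, 0, 0, 0, 0, by simp⟩

variable {k : Type u} [Field k] {R : Type v} [CommRing R] [IsDomain R] (ι : k →+* R) {π a b : R}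
  (hπ : ¬ IsUnit π) (hπ0 : π ≠ 0) (ha : IsUnit a) (hb : IsUnit b)

include hπ in
theorem const_eq_zero {c : k} {e z : R} (he : IsUnit e) (h : ι c * e = π * z) : c = 0 := by
  by_contra hc
  exact hπ (isUnit_of_mul_isUnit_left (h ▸ ((IsUnit.mk0 c hc).map ι).mul he))

include hπ hπ0 ha hb in
/-- Coefficients of a cubic vanishing at `(π a, 1, π³ b)`. -/
theorem cubic_coeff {p q r s t o v w x y : k}
    (h : ι p * (π * a) ^ 3 + ι q * (π * a) ^ 2 + ι r * (π * a) ^ 2 * (π ^ 3 * b) + ι s * (π * a) +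
      ι t * (π * a) * (π ^ 3 * b) + ι o * (π * a) * (π ^ 3 * b) ^ 2 + ι v + ι w * (π ^ 3 * b) +
      ι x * (π ^ 3 * b) ^ 2 + ι y * (π ^ 3 * b) ^ 3 = 0) :
    q = 0 ∧ s = 0 ∧ v = 0 ∧
      ((p = 0 ∨ w = 0) → p = 0 ∧ r = 0 ∧ t = 0 ∧ o = 0 ∧ w = 0 ∧ x = 0 ∧ y = 0) := by
  have e0 : v = 0 := const_eq_zero ι hπ isUnit_one (z := -(ι p * π ^ 2 * a ^ 3 + ι q * π * a ^ 2 +
    ι r * π ^ 4 * a ^ 2 * b + ι s * a + ι t * π ^ 3 * a * b + ι o * π ^ 6 * a * b ^ 2 + ι w * π ^ 2 * b +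
    ι x * π ^ 5 * b ^ 2 + ι y * π ^ 8 * b ^ 3)) (by linear_combination h)
  subst e0
  rw [map_zero, add_zero] at h
  have h1 : ι p * π ^ 2 * a ^ 3 + ι q * π * a ^ 2 + ι r * π ^ 4 * a ^ 2 * b + ι s * a +
      ι t * π ^ 3 * a * b + ι o * π ^ 6 * a * b ^ 2 + ι w * π ^ 2 * b + ι x * π ^ 5 * b ^ 2 +
      ι y * π ^ 8 * b ^ 3 = 0 := (mul_eq_zero.1 (show π * _ = 0 by linear_combination h)).resolve_left hπ0
  have e1 : s = 0 := const_eq_zero ι hπ ha (z := -(ι p * π * a ^ 3 + ι q * a ^ 2 + ι r * π ^ 3 * a ^ 2 * b +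
    ι t * π ^ 2 * a * b + ι o * π ^ 5 * a * b ^ 2 + ι w * π * b + ι x * π ^ 4 * b ^ 2 + ι y * π ^ 7 * b ^ 3))
    (by linear_combination h1)
  subst e1
  rw [map_zero, zero_mul, add_zero] at h1
  have h2 : ι p * π * a ^ 3 + ι q * a ^ 2 + ι r * π ^ 3 * a ^ 2 * b + ι t * π ^ 2 * a * b +
      ι o * π ^ 5 * a * b ^ 2 + ι w * π * b + ι x * π ^ 4 * b ^ 2 + ι y * π ^ 7 * b ^ 3 = 0 :=
    (mul_eq_zero.1 (show π * _ = 0 by linear_combination h1)).resolve_left hπ0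
  have e2 : q = 0 := const_eq_zero ι hπ (ha.pow 2) (z := -(ι p * a ^ 3 + ι r * π ^ 2 * a ^ 2 * b +
    ι t * π * a * b + ι o * π ^ 4 * a * b ^ 2 + ι w * b + ι x * π ^ 3 * b ^ 2 + ι y * π ^ 6 * b ^ 3))
    (by linear_combination h2)
  subst e2
  rw [map_zero, zero_mul, add_zero] at h2
  have h3 : ι p * a ^ 3 + ι r * π ^ 2 * a ^ 2 * b + ι t * π * a * b +
      ι o * π ^ 4 * a * b ^ 2 + ι w * b + ι x * π ^ 3 * b ^ 2 + ι y * π ^ 6 * b ^ 3 = 0 :=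
    (mul_eq_zero.1 (show π * _ = 0 by linear_combination h2)).resolve_left hπ0
  refine ⟨rfl, rfl, rfl, fun hpw => ?_⟩
  have e3 : p = 0 ∧ w = 0 := by
    rcases hpw with hp | hw
    · subst hp
      refine ⟨rfl, const_eq_zero ι hπ hb (z := -(ι r * π * a ^ 2 * b + ι t * a * b + ι o * π ^ 3 * a * b ^ 2 +
        ι x * π ^ 2 * b ^ 2 + ι y * π ^ 5 * b ^ 3)) ?_⟩
      rw [map_zero, zero_mul, zero_add] at h3
      linear_combination h3
    · subst hw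
      refine ⟨const_eq_zero ι hπ (ha.pow 3) (z := -(ι r * π * a ^ 2 * b + ι t * a * b + ι o * π ^ 3 * a * b ^ 2 +
        ι x * π ^ 2 * b ^ 2 + ι y * π ^ 5 * b ^ 3)) ?_, rfl⟩
      rw [map_zero, zero_mul, add_zero] at h3
      linear_combination h3
  obtain ⟨rfl, rfl⟩ := e3
  rw [map_zero, zero_mul, zero_add, zero_mul, add_zero] at h3
  have h4 : ι r * π * a ^ 2 * b + ι t * a * b + ι o * π ^ 3 * a * b ^ 2 + ι x * π ^ 2 * b ^ 2 +
      ι y * π ^ 5 * b ^ 3 = 0 := (mul_eq_zero.1 (show π * _ = 0 by linear_combination h3)).resolve_left hπ0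
  have e4 : t = 0 := const_eq_zero ι hπ (ha.mul hb) (z := -(ι r * a ^ 2 * b + ι o * π ^ 2 * a * b ^ 2 +
    ι x * π * b ^ 2 + ι y * π ^ 4 * b ^ 3)) (by linear_combination h4)
  subst e4
  rw [map_zero, zero_mul, zero_mul, add_zero] at h4
  have h5 : ι r * a ^ 2 * b + ι o * π ^ 2 * a * b ^ 2 + ι x * π * b ^ 2 + ι y * π ^ 4 * b ^ 3 = 0 :=
    (mul_eq_zero.1 (show π * _ = 0 by linear_combination h4)).resolve_left hπ0
  have e5 : r = 0 := const_eq_zero ι hπ ((ha.pow 2).mul hb) (z := -(ι o * π * a * b ^ 2 + ι x * b ^ 2 +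
    ι y * π ^ 3 * b ^ 3)) (by linear_combination h5)
  subst e5
  rw [map_zero, zero_mul, zero_mul, zero_add] at h5
  have h6 : ι o * π * a * b ^ 2 + ι x * b ^ 2 + ι y * π ^ 3 * b ^ 3 = 0 :=
    (mul_eq_zero.1 (show π * _ = 0 by linear_combination h5)).resolve_left hπ0
  have e6 : x = 0 := const_eq_zero ι hπ (hb.pow 2) (z := -(ι o * a * b ^ 2 + ι y * π ^ 2 * b ^ 3))
    (by linear_combination h6)
  subst e6
  rw [map_zero, zero_mul, add_zero] at h6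
  have h7 : ι o * a * b ^ 2 + ι y * π ^ 2 * b ^ 3 = 0 :=
    (mul_eq_zero.1 (show π * _ = 0 by linear_combination h6)).resolve_left hπ0
  have e7 : o = 0 := const_eq_zero ι hπ (ha.mul (hb.pow 2)) (z := -(ι y * π * b ^ 3))
    (by linear_combination h7)
  subst e7
  rw [map_zero, zero_mul, zero_mul, zero_add] at h7
  have e8 : y = 0 := by
    by_contra hy
    exact ((((IsUnit.mk0 y hy).map ι).mul (hb.pow 3)).ne_zero)
      ((mul_eq_zero.1 (show π ^ 2 * (ι y * b ^ 3) = 0 by linear_combination h7)).resolve_left (pow_ne_zero 2 hπ0))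
  exact ⟨rfl, rfl, rfl, rfl, rfl, rfl, e8⟩

end Groth.Agent.LefPen24
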