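import Groth.Agent.CurveRR24.DegGroup
import Groth.Agent.CurveRR24.VeryAmple
import Groth.Agent.CurveRR24.DegOneApps
import Groth.Agent.AmpleLib.GenLocus

/-!
# The three sections of `O(3P)` on a genus one curve

`CubicData` records three spanning sections whose local expressions at `P` are
`(a π e, b e, π³ e)` with `a, b` units and `π` a uniformizer.
-/

set_option autoImplicit false
set_option linter.style.haveILetI false
set_option backward.isDefEq.respectTransparency.types false
set_option maxHeartbeats 1000000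

universe u

open CategoryTheory CategoryTheory.Limits AlgebraicGeometry Opposite TopologicalSpace
open Groth.Agent.Coherent Groth.Agent.PicLib Groth.Agent.AmpleLib Groth.Agent.EulerLib Groth.Agent.CurveRR24

namespace Groth.Agent.LefPen24

variable (k : Type u) [Field k] {X : Scheme.{u}} [X.Over (Spec (CommRingCat.of k))]

/-- Three spanning sections of a degree three module, with their expressions at `P`. -/
structure CubicData (P : X) where
  L : X.Modules
  hL : PicF.IsInvertible L
  deg_eq : Curv2.deg k X L 1 = 3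
  σ : Fin (2 + 1) → Γ(L, ⊤)
  span : ∀ s : Γ(L, ⊤), ∃ c : Fin (2 + 1) → k,
    ∑ i, ProjUP.toGlobal (X ↘ Spec (CommRingCat.of k)) (c i) • σ i = s
  cov : ∀ x : X, ∃ i, x ∈ glocus L (σ i)
  W : X.Opens
  mem : P ∈ W
  e : Γ(L, W)
  gen : IsGen L W e
  a : Γ(X, W)
  b : Γ(X, W)
  π : Γ(X, W)
  eq₀ : resM L le_top (σ 0) = (a * π) • e
  eq₁ : resM L le_top (σ 1) = b • e
  eq₂ : resM L le_top (σ 2) = π ^ 3 • e
  unit_a : IsUnit (X.presheaf.germ W P mem a)
  unit_b : IsUnit (X.presheaf.germ W P mem b)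
  span_π : IsLocalRing.maximalIdeal (X.presheaf.stalk P) = Ideal.span {X.presheaf.germ W P mem π}

variable {k}

theorem isUnit_germ_gl {W : X.Opens} {x : X} (hx : x ∈ W) {c : k} (hc : c ≠ 0) :
    IsUnit (X.presheaf.germ W x hx (EmbLib24.gl (X ↘ Spec (CommRingCat.of k)) W c)) :=
  (((IsUnit.mk0 c hc).map (EmbLib24.gl (X ↘ Spec (CommRingCat.of k)) W))).map (X.presheaf.germ W x hx).hom

variable [IsIntegral X] [IsProper (X ↘ Spec (CommRingCat.of k))]

omit [IsProper (X ↘ Spec (CommRingCat.of k))] in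
theorem eq_zero_of_mem_maximal {W : X.Opens} {x : X} (hx : x ∈ W) {c : k}
    (h : X.presheaf.germ W x hx (EmbLib24.gl (X ↘ Spec (CommRingCat.of k)) W c) ∈
      IsLocalRing.maximalIdeal (X.presheaf.stalk x)) : c = 0 := by
  by_contra hc
  exact h (isUnit_germ_gl hx hc)

theorem exists_cubicData (hdim : topologicalKrullDim X = 1)
    (h0 : Module.finrank k (Coh.HH X (Coh.structureModule X) 0) = 1) (hg : Curv2.genus k X = 1)
    {P : X} (hP : IsClosed ({P} : Set X))
    (hn : IsIntegrallyClosed (X.presheaf.stalk P))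
    (hres : letI := Curv2.resAlgebra k X P; Module.finrank k (X.residueField P) = 1) :
    Nonempty (CubicData k P) := by
  classical
  haveI := isNoetherian_of_proper k (X := X)
  let q := X ↘ Spec (CommRingCat.of k)
  let φ := baseHom k X
  let I := ptIdeal P hP
  let J := ClSub.idealMod I
  have hJ : PicF.IsInvertible J := isInvertible_ptIdeal_of_normal k hdim hP hn
  obtain ⟨L₁, hL₁, ⟨ι⟩⟩ := exists_inverse (k := k) hJ
  have hd₁ : Curv2.deg k X L₁ 1 = 1 := by
    rw [deg_inverse k hdim.le hJ hL₁ ι, deg_ptIdeal k hP, hres]; norm_num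
  let L₂ := CohB1.tensorMod L₁ L₁
  have hL₂ : PicF.IsInvertible L₂ := isInvertible_tensorMod hL₁ hL₁
  have hd₂ : Curv2.deg k X L₂ 1 = 2 := by rw [deg_tensor k hdim.le hL₁ hL₁, hd₁]; norm_num
  let L := CohB1.tensorMod L₂ L₁
  have hL : PicF.IsInvertible L := isInvertible_tensorMod hL₂ hL₁
  have hd : Curv2.deg k X L 1 = 3 := by rw [deg_tensor k hdim.le hL₂ hL₁, hd₂, hd₁]; norm_num
  -- generated at `P`
  have hgg : ∀ M : X.Modules, PicF.IsInvertible M → 2 ≤ Curv2.deg k X M 1 →
      ∃ s : Γ(M, ⊤), P ∈ glocus M s := fun M hM hdM =>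
    exists_mem_glocus_of_gg k hP hM (globallyGenerated_of_deg k hdim h0 hM (by rw [hg]; simpa using hdM))
  obtain ⟨t₂, ht₂⟩ := hgg L₂ hL₂ hd₂.ge
  obtain ⟨t₃, ht₃⟩ := hgg L hL (by omega)
  -- the canonical section
  let z : Γ(CohB1.tensorMod J L₁, ⊤) := ι.inv.app ⊤ (AmpleLib.oneSec ⊤)
  have hz : glocus _ z = ⊤ := (glocus_map_iso ι.symm (AmpleLib.oneSec ⊤)).trans glocus_oneSec
  let s : Γ(L₁, ⊤) := (twistMul I L₁).app ⊤ z
  have hs : ∀ y, y ≠ P → y ∈ glocus L₁ s := fun y hy =>
    mem_glocus_twistMul hL₁ z (fun h => hy ((support_ptIdeal hP).le h)) (hz.ge trivial)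
  -- local expressions
  obtain ⟨U₁, hPU₁, j₀, hj₀⟩ := exists_isGen hJ P
  obtain ⟨U₂, hPU₂, e₀, he₀⟩ := exists_isGen hL₁ P
  let W := U₁ ⊓ U₂
  have hPW : P ∈ W := ⟨hPU₁, hPU₂⟩
  let j := resM J (inf_le_left : W ≤ U₁) j₀
  have hj : IsGen J W j := hj₀.restrict inf_le_left
  let e := resM L₁ (inf_le_right : W ≤ U₂) e₀
  have he : IsGen L₁ W e := he₀.restrict inf_le_right
  have hje : IsGen (CohB1.tensorMod J L₁) W (tmul j e) := isGen_tmul hj he
  have hzW : IsGen (CohB1.tensorMod J L₁) W (resM _ le_top z) := by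
    have := (isGen_glocus z).restrict (show W ≤ glocus _ z from hz.ge.trans' le_top)
    rwa [resM_resM] at this
  let v : Γ(X, W) := hje.coef le_rfl (resM _ le_top z)
  have hv : v • tmul j e = resM _ le_top z := by
    simpa only [resM_self] using hje.coef_spec le_rfl (resM _ le_top z)
  have hvu : IsUnit v := hje.isUnit_coef hzW
  let π : Γ(X, W) := v * (show Γ(X, W) from (ClSub.idealModι I).app W j)
  have hsW : resM L₁ le_top s = π • e := by
    show resM L₁ le_top ((twistMul I L₁).app ⊤ z) = _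
    rw [← app_resM, ← hv, Scheme.Modules.Hom.app_smul, twistMul_tmul, smul_smul]
  have hπ : IsLocalRing.maximalIdeal (X.presheaf.stalk P) = Ideal.span {X.presheaf.germ W P hPW π} := by
    rw [span_germ_gen hP hPW hj, map_mul,
      Ideal.span_singleton_mul_left_unit (hvu.map (X.presheaf.germ W P hPW).hom)]
  have coefUnit : ∀ {M : X.Modules} {g : Γ(M, W)} (hg : IsGen M W g) (t : Γ(M, ⊤)), P ∈ glocus M t →
      ∃ c : Γ(X, W), resM M le_top t = c • g ∧ IsUnit (X.presheaf.germ W P hPW c) := by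
    intro M g hg t ht
    refine ⟨hg.coef le_rfl (resM M le_top t), ?_, ?_⟩
    · simpa only [resM_self] using (hg.coef_spec le_rfl (resM M le_top t)).symm
    · rw [← X.mem_basicOpen _ P hPW, ← glocus_inf t hg]
      exact ⟨ht, hPW⟩
  let e₂ := tmul e e
  have he₂ : IsGen L₂ W e₂ := isGen_tmul he he
  let e₃ := tmul e₂ e
  have he₃ : IsGen L W e₃ := isGen_tmul he₂ he
  obtain ⟨a, ha, hau⟩ := coefUnit he₂ t₂ ht₂
  obtain ⟨b, hb, hbu⟩ := coefUnit he₃ t₃ ht₃
  let σ : Fin (2 + 1) → Γ(L, ⊤) := ![tmul t₂ s, t₃, tmul (tmul s s) s]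
  have e0 : resM L le_top (σ 0) = (a * π) • e₃ := by
    show resM L le_top (tmul t₂ s) = _
    rw [resM_tmul, ha, hsW, tmul_smul_smul]
  have e1 : resM L le_top (σ 1) = b • e₃ := hb
  have e2 : resM L le_top (σ 2) = π ^ 3 • e₃ := by
    show resM L le_top (tmul (tmul s s) s) = _
    rw [resM_tmul, resM_tmul, hsW, tmul_smul_smul, tmul_smul_smul, pow_three, mul_assoc]
  -- independence
  haveI : IsDomain (X.presheaf.stalk P) := inferInstance
  have hp0 : X.presheaf.germ W P hPW π ≠ 0 := fun h => by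
    rw [h, Ideal.span_singleton_zero] at hπ
    have h1 := stalk_dim_eq_one hdim hP
    rw [ringKrullDim_eq_zero_of_isField (IsLocalRing.isField_iff_maximalIdeal_eq.2 hπ)] at h1
    exact zero_ne_one h1
  have hpm : X.presheaf.germ W P hPW π ∈ IsLocalRing.maximalIdeal (X.presheaf.stalk P) :=
    hπ ▸ Ideal.mem_span_singleton_self _
  let g := EmbLib24.gl q W
  have hli : LinearIndependent k (fun i => (show GA φ L from σ i)) := by
    rw [Fintype.linearIndependent_iff]
    intro c hc
    have hc' : φ (c 0) • σ 0 + φ (c 1) • σ 1 + φ (c 2) • σ 2 = 0 := by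
      rw [Fin.sum_univ_three] at hc; exact hc
    have h := congrArg (resM L (le_top : W ≤ ⊤)) hc'
    rw [map_zero, map_add, map_add, resM_smul, resM_smul, resM_smul, e0, e1, e2, smul_smul, smul_smul,
      smul_smul, ← add_smul, ← add_smul] at h
    have hr : g (c 0) * (a * π) + g (c 1) * b + g (c 2) * π ^ 3 = 0 := by
      refine (he₃ W le_rfl).1 ?_
      beta_reduce
      rw [resM_self, zero_smul]
      exact h
    have hst := congrArg (X.presheaf.germ W P hPW) hr
    simp only [map_add, map_mul, map_pow, map_zero] at hst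
    set p := X.presheaf.germ W P hPW π
    have h1 : c 1 = 0 := by
      refine eq_zero_of_mem_maximal hPW ?_
      refine (Ideal.mul_unit_mem_iff_mem _ hbu).1 ?_
      rw [show X.presheaf.germ W P hPW (g (c 1)) * X.presheaf.germ W P hPW b =
        p * (-(X.presheaf.germ W P hPW (g (c 0)) * X.presheaf.germ W P hPW a) -
          X.presheaf.germ W P hPW (g (c 2)) * p ^ 2) by linear_combination hst]
      exact Ideal.mul_mem_right _ _ hpm
    rw [h1, map_zero, map_zero, zero_mul, add_zero] at hst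
    have hst' : X.presheaf.germ W P hPW (g (c 0)) * X.presheaf.germ W P hPW a +
        X.presheaf.germ W P hPW (g (c 2)) * p ^ 2 = 0 :=
      (mul_eq_zero.1 (show p * _ = 0 by linear_combination hst)).resolve_left hp0
    have h0' : c 0 = 0 := by
      refine eq_zero_of_mem_maximal hPW ((Ideal.mul_unit_mem_iff_mem _ hau).1 ?_)
      rw [show X.presheaf.germ W P hPW (g (c 0)) * X.presheaf.germ W P hPW a =
        p * (-(X.presheaf.germ W P hPW (g (c 2)) * p)) by linear_combination hst']
      exact Ideal.mul_mem_right _ _ hpm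
    rw [h0', map_zero, map_zero, zero_mul, zero_add] at hst'
    have h2' : c 2 = 0 := by
      by_contra hne
      exact ((isUnit_germ_gl (k := k) hPW hne).ne_zero)
        ((mul_eq_zero.1 hst').resolve_right (pow_ne_zero 2 hp0))
    intro i
    fin_cases i <;> assumption
  haveI : Subsingleton (Coh.HH X L 1) :=
    subsingleton_h1_of_deg k hdim.le h0 hL (by rw [hd, hg]; norm_num)
  have hrr := riemann_roch k hdim.le hL
  rw [h0, hg, hd, Module.finrank_zero_of_subsingleton (M := Coh.HH X L 1)] at hrr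
  haveI : Module.Finite k (GA φ L) := by
    haveI := finite_HH_of_isCoh k (isCoh_of_isInvertible k hL) 0
    exact Module.Finite.equiv (hhZero k L)
  have h3 : Module.finrank k (GA φ L) = 3 := by
    rw [← (hhZero k L).finrank_eq]; omega
  have hspan := hli.span_eq_top_of_card_eq_finrank (by rw [Fintype.card_fin, h3])
  refine ⟨⟨L, hL, hd, σ, fun t => ?_, fun x => ?_, W, hPW, e₃, he₃, a, b, π, e0, hb, e2, hau, hbu, hπ⟩⟩
  · obtain ⟨c, hc⟩ := (Submodule.mem_span_range_iff_exists_fun k).1
      (hspan ▸ Submodule.mem_top : (show GA φ L from t) ∈ Submodule.span k (Set.range fun i => (show GA φ L from σ i)))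
    exact ⟨c, hc⟩
  · by_cases hx : x = P
    · exact ⟨1, hx ▸ ht₃⟩
    · refine ⟨2, ?_⟩
      show x ∈ glocus L (tmul (tmul s s) s)
      rw [glocus_tmul hL₂ hL₁, glocus_tmul hL₁ hL₁]
      exact ⟨⟨hs x hx, hs x hx⟩, hs x hx⟩

end Groth.Agent.LefPen24
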