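import Groth.Agent.LefPen24.DehomEval
import Groth.Agent.EmbLib24.Criterion
import Groth.Agent.NormalExtLib.Basic
import Mathlib.Algebra.DualNumber
import Mathlib.RingTheory.IntegralClosure.IntegrallyClosed

/-!
# A plane cubic `Y²Z = (X - eZ)² (X - fZ)` is not normal
-/

set_option autoImplicit false
set_option linter.style.haveILetI false
set_option backward.isDefEq.respectTransparency.types false

universe u

open CategoryTheory AlgebraicGeometry Opposite TopologicalSpace HomogeneousLocalization

namespace Groth.Agent.LefPen24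

variable {r : ℕ} {k : Type u} [Field k]

/-- Evaluation of chart functions at a point with `T_j = 1`. -/
theorem exists_evalChart {T : Type u} [CommRing T] [Algebra k T] (j : Fin (r + 1)) (pt : Fin (r + 1) → T)
    (hj : pt j = 1) :
    ∃ χ : Γ(CohB1.ProjSpace r k, LefPen.chart r k j) →+* T,
      (∀ c, χ (EmbLib24.gl (CohB1.ProjSpace.toSpec r k) (LefPen.chart r k j) c) = algebraMap k T c) ∧
      ∀ l, χ (EmbLib24.coordFun r k j l) = pt l := by
  let ev : MvPolynomial (Fin (r + 1)) k →+* T := MvPolynomial.eval₂Hom (algebraMap k T) pt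
  have hu : IsUnit (ev (MvPolynomial.X j)) := by
    rw [show ev (MvPolynomial.X j) = pt j from MvPolynomial.eval₂Hom_X' _ _ _, hj]; exact isUnit_one
  let Φ : Away (CohB1.polyGrading r k) (MvPolynomial.X j : MvPolynomial (Fin (r + 1)) k) →+* T :=
    (IsLocalization.Away.lift (MvPolynomial.X j : MvPolynomial (Fin (r + 1)) k) hu).comp
      (algebraMap _ (Localization.Away (MvPolynomial.X j : MvPolynomial (Fin (r + 1)) k)))
  let e := Proj.basicOpenIsoAway (CohB1.polyGrading r k) (MvPolynomial.X j) (LefPen.X_mem r k j) one_pos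
  have he : ∀ a, e.inv.hom ((Proj.awayToSection (CohB1.polyGrading r k) (MvPolynomial.X j)).hom a) = a :=
    fun a => ConcreteCategory.congr_hom e.hom_inv_id a
  have hΦ : ∀ a (s : MvPolynomial (Fin (r + 1)) k),
      a.val * algebraMap _ (Localization.Away (MvPolynomial.X j : MvPolynomial (Fin (r + 1)) k)) (MvPolynomial.X j) =
        algebraMap _ _ s → Φ a = ev s := fun a s h => by
    have h' := congrArg (IsLocalization.Away.lift (MvPolynomial.X j : MvPolynomial (Fin (r + 1)) k) hu) h
    rw [map_mul, IsLocalization.Away.lift_eq, IsLocalization.Away.lift_eq,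
      show ev (MvPolynomial.X j) = 1 by rw [MvPolynomial.eval₂Hom_X', hj], mul_one] at h'
    exact h'
  refine ⟨Φ.comp e.inv.hom, fun c => ?_, fun l => ?_⟩
  · rw [← EmbLib24.awayToSection_const, RingHom.comp_apply]
    erw [he]
    refine (hΦ _ (MvPolynomial.C c * MvPolynomial.X j) ?_).trans ?_
    · rw [map_mul]
      refine congrArg (· * _) ?_
      exact Localization.mk_one_eq_algebraMap (MvPolynomial.C c : MvPolynomial (Fin (r + 1)) k)
    · rw [map_mul, MvPolynomial.eval₂Hom_C, MvPolynomial.eval₂Hom_X', hj, mul_one]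
  · rw [RingHom.comp_apply, EmbLib24.coordFun]
    erw [he]
    refine (hΦ _ (MvPolynomial.X l) ?_).trans (MvPolynomial.eval₂Hom_X' _ _ _)
    rw [EmbLib24.coordFrac, Away.val_mk, Localization.mk_eq_mk']
    have := IsLocalization.mk'_spec (Localization.Away (MvPolynomial.X j : MvPolynomial (Fin (r + 1)) k))
      (MvPolynomial.X l) (⟨MvPolynomial.X j ^ 1, 1, rfl⟩ : Submonoid.powers (MvPolynomial.X j : MvPolynomial (Fin (r + 1)) k))
    simp only [pow_one] at this ⊢
    exact this

/-- `Y²Z - (X - eZ)²(X - fZ)` does not define a normal integral scheme. -/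
theorem false_of_double_root (e f : k) (W : LefPen.Form 2 k 3)
    (hW : (W : MvPolynomial (Fin (2 + 1)) k) = MvPolynomial.X 1 ^ 2 * MvPolynomial.X 2 -
      (MvPolynomial.X 0 - MvPolynomial.C e * MvPolynomial.X 2) ^ 2 *
        (MvPolynomial.X 0 - MvPolynomial.C f * MvPolynomial.X 2))
    [IsIntegral (LefPen.hypIdeal W).subscheme] (hN : Pi1.IsNormalScheme (LefPen.hypIdeal W).subscheme) :
    False := by
  let Z := LefPen.hypIdeal W
  let U : (CohB1.ProjSpace 2 k).affineOpens := ⟨LefPen.chart 2 k 2, isAffineOpen_chart 2⟩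
  let V : Z.subscheme.Opens := Z.subschemeι ⁻¹ᵁ U.1
  have hV : IsAffineOpen V := U.2.preimage Z.subschemeι
  let π : Γ(CohB1.ProjSpace 2 k, U.1) →+* Γ(Z.subscheme, V) := (Z.subschemeι.app U.1).hom
  have hπ : Function.Surjective π := Z.subschemeι_app_surjective U
  have hker : RingHom.ker π = Ideal.span {LefPen.dehom W 2} :=
    (Z.ker_subschemeι_app U).trans (ideal_hypIdeal_chart W 2)
  let g := EmbLib24.gl (CohB1.ProjSpace.toSpec 2 k) (LefPen.chart 2 k 2)
  let c := EmbLib24.coordFun 2 k (2 : Fin (2 + 1))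
  have hc2 : c 2 = 1 := EmbLib24.coordFun_self 2
  have hd : LefPen.dehom W 2 = c 1 ^ 2 - (c 0 - g e) ^ 2 * (c 0 - g f) := by
    rw [dehom_eq_eval₂, hW]
    simp only [MvPolynomial.eval₂_sub, MvPolynomial.eval₂_mul, MvPolynomial.eval₂_pow, MvPolynomial.eval₂_X,
      MvPolynomial.eval₂_C]
    change c 1 ^ 2 * c 2 - (c 0 - g e * c 2) ^ 2 * (c 0 - g f * c 2) = _
    rw [hc2]; ring
  -- the two tangent directions at the double point
  have key : ∀ s t : k, ∃ ψ : Γ(Z.subscheme, V) →+* DualNumber k,
      (∀ x, ψ (π (g x)) = algebraMap k _ x) ∧ ψ (π (c 0)) = algebraMap k _ e + algebraMap k _ s * DualNumber.eps ∧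
        ψ (π (c 1)) = algebraMap k _ t * DualNumber.eps := fun s t => by
    obtain ⟨χ, hχc, hχ⟩ := exists_evalChart (k := k) (2 : Fin (2 + 1))
      ![algebraMap k (DualNumber k) e + algebraMap k _ s * DualNumber.eps, algebraMap k _ t * DualNumber.eps, 1]
      (by simp)
    have he : (DualNumber.eps : DualNumber k) ^ 2 = 0 := by rw [sq, DualNumber.eps_mul_eps]
    have h0 : RingHom.ker π ≤ RingHom.ker χ := by
      rw [hker, Ideal.span_le, Set.singleton_subset_iff, SetLike.mem_coe, RingHom.mem_ker, hd]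
      simp only [map_sub, map_mul, map_pow, c, g, hχ, hχc, Matrix.cons_val_zero, Matrix.cons_val_one,
        Matrix.cons_val]
      linear_combination (algebraMap k _ t ^ 2 - algebraMap k _ s ^ 2 *
        (algebraMap k _ e + algebraMap k _ s * DualNumber.eps - algebraMap k (DualNumber k) f)) * he
    refine ⟨RingHom.liftOfSurjective π hπ ⟨χ, h0⟩, fun x => ?_, ?_, ?_⟩
    · rw [RingHom.liftOfRightInverse_comp_apply]; exact hχc x
    · rw [RingHom.liftOfRightInverse_comp_apply]; exact (hχ 0).trans (by simp)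
    · rw [RingHom.liftOfRightInverse_comp_apply]; exact (hχ 1).trans (by simp)
  have heps : (DualNumber.eps : DualNumber k) ≠ 0 := fun h => one_ne_zero (α := k)
    (by simpa using congrArg TrivSqZeroExt.snd h)
  haveI : Nonempty V := by
    by_contra hne
    rw [not_nonempty_iff] at hne
    haveI : Subsingleton Γ(Z.subscheme, V) := CommRingCat.subsingleton_of_isTerminal (by
      rw [show V = ⊥ from Opens.ext (Set.isEmpty_coe_sort.1 hne)]
      exact Z.subscheme.sheaf.isTerminalOfEmpty)
    obtain ⟨ψ, -⟩ := key 0 0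
    exact one_ne_zero (α := DualNumber k) (by rw [← map_one ψ, Subsingleton.elim (1 : Γ(Z.subscheme, V)) 0, map_zero])
  haveI := NormalExtLib.isIntegrallyClosed_sections hN V hV
  let B := Γ(Z.subscheme, V)
  let a : B := π (c 0) - π (g e)
  let b : B := π (c 1)
  have hrel : b ^ 2 = a ^ 2 * (π (c 0) - π (g f)) := by
    have h : π (LefPen.dehom W 2) = 0 := RingHom.mem_ker.1 (hker ▸ Ideal.mem_span_singleton_self _)
    rw [hd, map_sub, map_mul, map_pow, map_pow, map_sub, map_sub] at h
    linear_combination h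
  have ha : a ≠ 0 := fun h => by
    obtain ⟨ψ, hψc, hψ0, -⟩ := key 1 0
    have h' := congrArg ψ h
    rw [map_sub, map_zero, hψ0, hψc, map_one, one_mul, add_sub_cancel_left] at h'
    exact heps h'
  let K := FractionRing B
  have ha' : algebraMap B K a ≠ 0 := (map_ne_zero_iff _ (IsFractionRing.injective B K)).2 ha
  have hint : IsIntegral B (algebraMap B K b / algebraMap B K a) := by
    refine IsIntegral.of_pow two_pos ?_
    rw [div_pow, ← map_pow (algebraMap B K) b, hrel, map_mul, map_pow,
      mul_div_cancel_left₀ _ (pow_ne_zero 2 ha')]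
    exact isIntegral_algebraMap
  obtain ⟨z, hz⟩ := IsIntegrallyClosed.isIntegral_iff.1 hint
  have hb : b = z * a := IsFractionRing.injective B K (by rw [map_mul, hz, div_mul_cancel₀ _ ha'])
  obtain ⟨ψ, hψc, hψ0, hψ1⟩ := key 0 1
  have h' := congrArg ψ hb
  rw [map_mul, map_sub, hψ0, hψc, show ψ b = ψ (π (c 1)) from rfl, hψ1, map_one, map_zero, one_mul, zero_mul,
    add_zero, sub_self, mul_zero] at h'
  exact heps h'

end Groth.Agent.LefPen24
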