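import Mathlib.AlgebraicGeometry.IdealSheaf.Basic
import Mathlib.AlgebraicGeometry.Morphisms.Separated

/-!
# The ideal sheaf cut out by local equations on a finite affine family

For a separated scheme `X`, finitely many affine opens `V i` and `g i ∈ Γ(X, V i)`, the family
`U ↦ {x ∈ Γ(X, U) | x|_{U ∩ V i} ∈ (g i) for all i}` is a quasi-coherent ideal sheaf.
-/

set_option autoImplicit false

universe u

open CategoryTheory CategoryTheory.Limits AlgebraicGeometry Opposite TopologicalSpace

namespace Groth.Agent.LefPen24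

variable {X : Scheme.{u}} {ι : Type*} (V : ι → X.Opens) (g : ∀ i, Γ(X, V i))

/-- Restriction of functions. -/
noncomputable abbrev res {U W : X.Opens} (h : W ≤ U) : Γ(X, U) →+* Γ(X, W) :=
  (X.presheaf.map (homOfLE h).op).hom

theorem res_res {U W T : X.Opens} (h : W ≤ U) (h' : T ≤ W) (x : Γ(X, U)) :
    res h' (res h x) = res (h'.trans h) x := by
  have := ConcreteCategory.congr_hom (X.presheaf.map_comp (homOfLE h).op (homOfLE h').op) x
  exact this.symm

theorem res_self {U : X.Opens} (h : U ≤ U) (x : Γ(X, U)) : res h x = x :=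
  (congrArg (fun m => (X.presheaf.map m).hom x) (Subsingleton.elim (homOfLE h).op (𝟙 (op U)))).trans
    (ConcreteCategory.congr_hom (X.presheaf.map_id (op U)) x)

/-- Sections locally divisible by the equations. -/
noncomputable def famIdeal (U : X.Opens) : Ideal Γ(X, U) :=
  ⨅ i, Ideal.comap (res (inf_le_left : U ⊓ V i ≤ U))
    (Ideal.span {res (inf_le_right : U ⊓ V i ≤ V i) (g i)})

theorem mem_famIdeal {U : X.Opens} {x : Γ(X, U)} :
    x ∈ famIdeal V g U ↔ ∀ i, ∃ c : Γ(X, U ⊓ V i),
      c * res (inf_le_right : U ⊓ V i ≤ V i) (g i) = res (inf_le_left : U ⊓ V i ≤ U) x := by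
  simp only [famIdeal, Ideal.mem_iInf, Ideal.mem_comap, Ideal.mem_span_singleton']

theorem res_mem_famIdeal {U W : X.Opens} (h : W ≤ U) {x : Γ(X, U)} (hx : x ∈ famIdeal V g U) :
    res h x ∈ famIdeal V g W := by
  rw [mem_famIdeal] at hx ⊢
  intro i
  obtain ⟨c, hc⟩ := hx i
  refine ⟨res (inf_le_inf_right _ h) c, ?_⟩
  rw [res_res, ← res_res (inf_le_right : U ⊓ V i ≤ V i) (inf_le_inf_right _ h), ← map_mul, hc,
    res_res]

variable [X.IsSeparated] [Finite ι] (hV : ∀ i, IsAffineOpen (V i))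

include hV in
theorem famIdeal_basicOpen (U : X.affineOpens) (f : Γ(X, U)) :
    (famIdeal V g U.1).map (res (X.basicOpen_le f)) = famIdeal V g (X.basicOpen f) := by
  refine le_antisymm (Ideal.map_le_iff_le_comap.2 fun x hx => res_mem_famIdeal V g _ hx) fun x hx => ?_
  haveI := U.2.isLocalization_basicOpen f
  obtain ⟨n, y, hy⟩ : ∃ (n : ℕ) (y : Γ(X, U)),
      res (X.basicOpen_le f) (f ^ n) * x = res (X.basicOpen_le f) y := by
    obtain ⟨⟨y, s⟩, hys⟩ := IsLocalization.surj (M := Submonoid.powers f) x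
    obtain ⟨n, hn⟩ := s.2
    exact ⟨n, y, by rw [mul_comm]; rw [← hn] at hys; exact hys⟩
  have key : ∀ i, ∃ m : ℕ, ∃ c : Γ(X, U.1 ⊓ V i),
      c * res (inf_le_right : U.1 ⊓ V i ≤ V i) (g i) =
        res (inf_le_left : U.1 ⊓ V i ≤ U.1) (f ^ m * y) := by
    intro i
    have hW : IsAffineOpen (U.1 ⊓ V i) := U.2.inf (hV i)
    let f' : Γ(X, U.1 ⊓ V i) := res inf_le_left f
    haveI := hW.isLocalization_basicOpen f'
    have hle : X.basicOpen f' ≤ X.basicOpen f ⊓ V i := le_inf
      (by rw [Scheme.basicOpen_res]; exact inf_le_right)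
      ((X.basicOpen_le f').trans inf_le_right)
    obtain ⟨c, hc⟩ := mem_famIdeal V g |>.1 hx i
    have h1 : res (X.basicOpen_le f') (res inf_le_left y) ∈
        (Ideal.span {res (inf_le_right : U.1 ⊓ V i ≤ V i) (g i)}).map
          (res (X.basicOpen_le f')) := by
      rw [Ideal.map_span, Set.image_singleton, Ideal.mem_span_singleton']
      refine ⟨res hle (c * res inf_le_left (res (X.basicOpen_le f) (f ^ n))), ?_⟩
      calc _ = res hle (res inf_le_left (res (X.basicOpen_le f) (f ^ n)) *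
            (c * res inf_le_right (g i))) := by
            rw [res_res _ (X.basicOpen_le f') (g i), ← res_res (inf_le_right : X.basicOpen f ⊓ V i ≤ V i)
              hle (g i), ← map_mul]
            congr 1
            ring
        _ = res hle (res inf_le_left (res (X.basicOpen_le f) (f ^ n) * x)) := by
            rw [hc, ← map_mul]
        _ = _ := by rw [hy, res_res, res_res, res_res]
    obtain ⟨⟨⟨b, hb⟩, ⟨s, m, rfl⟩⟩, hbs⟩ :=
      (IsLocalization.mem_map_algebraMap_iff (Submonoid.powers f') Γ(X, X.basicOpen f')).1 h1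
    obtain ⟨⟨_, m', rfl⟩, hm'⟩ := (IsLocalization.eq_iff_exists (Submonoid.powers f')
      Γ(X, X.basicOpen f')).1 ((map_mul (algebraMap Γ(X, U.1 ⊓ V i) Γ(X, X.basicOpen f')) _ _).trans hbs)
    refine ⟨m' + m, ?_⟩
    obtain ⟨d, hd⟩ := Ideal.mem_span_singleton'.1 hb
    refine ⟨f' ^ m' * d, ?_⟩
    rw [mul_assoc, hd]
    change f' ^ m' * b = _
    simp only at hm'
    rw [← hm', map_mul, map_pow, pow_add]
    ring
  cases nonempty_fintype ι
  choose m hm using key
  have hmem : f ^ (Finset.univ.sup m) * y ∈ famIdeal V g U.1 := by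
    rw [mem_famIdeal]
    intro i
    obtain ⟨c, hc⟩ := hm i
    refine ⟨res inf_le_left (f ^ (Finset.univ.sup m - m i)) * c, ?_⟩
    rw [mul_assoc, hc, ← map_mul, ← mul_assoc, ← pow_add,
      Nat.sub_add_cancel (Finset.le_sup (Finset.mem_univ i))]
  have h2 := Ideal.mem_map_of_mem (res (X.basicOpen_le f)) hmem
  rw [map_mul, ← hy, ← mul_assoc, ← map_mul] at h2
  refine ((Ideal.unit_mul_mem_iff_mem _ ?_).1 h2)
  rw [← pow_add, map_pow]
  exact (IsLocalization.map_units Γ(X, X.basicOpen f) (⟨f, 1, pow_one f⟩ : Submonoid.powers f)).pow _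

include hV in
theorem ideal_ofIdeals_famIdeal :
    (Scheme.IdealSheafData.ofIdeals fun U : X.affineOpens => famIdeal V g U.1).ideal =
      fun U : X.affineOpens => famIdeal V g U.1 :=
  (Scheme.IdealSheafData.ideal_ofIdeals_le _).antisymm
    ((Scheme.IdealSheafData.le_ofIdeals_iff.2 (le_refl _) :
      (⟨_, fun U f => famIdeal_basicOpen V g hV U f, _, rfl⟩ : X.IdealSheafData) ≤ _))

end Groth.Agent.LefPen24
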