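import Groth.Agent.LefPen24.Weierstrass
import Groth.Agent.LefPen24.DoubleRoot

/-!
# Legendre form of a genus one curve over an algebraically closed field
-/

set_option autoImplicit false
set_option linter.style.haveILetI false
set_option backward.isDefEq.respectTransparency.types false
set_option maxHeartbeats 1000000

universe u

open CategoryTheory CategoryTheory.Limits AlgebraicGeometry Opposite TopologicalSpace
open Groth.Agent.Coherent Groth.Agent.PicLib Groth.Agent.AmpleLib Groth.Agent.EulerLib Groth.Agent.CurveRR24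

namespace Groth.Agent.LefPen24

variable {k : Type u} [Field k] {X : Scheme.{u}} [X.Over (Spec (CommRingCat.of k))] {P : X}

theorem evalAt_C (D : CubicData k P) (c : k) : D.evalAt (MvPolynomial.C c) = stalkConst k P c :=
  MvPolynomial.eval₂Hom_C _ _ _

theorem evalAt_X_zero (D : CubicData k P) : D.evalAt (MvPolynomial.X 0) =
    X.presheaf.germ D.W P D.mem D.a * X.presheaf.germ D.W P D.mem D.π :=
  MvPolynomial.eval₂Hom_X' _ _ _

theorem evalAt_X_one (D : CubicData k P) : D.evalAt (MvPolynomial.X 1) = X.presheaf.germ D.W P D.mem D.b :=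
  MvPolynomial.eval₂Hom_X' _ _ _

theorem evalAt_X_two (D : CubicData k P) :
    D.evalAt (MvPolynomial.X 2) = X.presheaf.germ D.W P D.mem D.π ^ 3 :=
  MvPolynomial.eval₂Hom_X' _ _ _

/-- Triangular change of coordinates. -/
theorem exists_change (D : CubicData k P) (β γ δ μ ν : k) (hβ : β ≠ 0) (hδ : δ ≠ 0) :
    ∃ D' : CubicData k P,
      D'.evalAt (MvPolynomial.X 0) =
        D.evalAt (MvPolynomial.C β * MvPolynomial.X 0 + MvPolynomial.C γ * MvPolynomial.X 2) ∧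
      D'.evalAt (MvPolynomial.X 1) = D.evalAt (MvPolynomial.C δ * MvPolynomial.X 1 +
        MvPolynomial.C μ * MvPolynomial.X 0 + MvPolynomial.C ν * MvPolynomial.X 2) ∧
      D'.evalAt (MvPolynomial.X 2) = D.evalAt (MvPolynomial.X 2) := by
  classical
  let q := X ↘ Spec (CommRingCat.of k)
  let G := ProjUP.toGlobal q
  let g := EmbLib24.gl q D.W
  let σ : Fin (2 + 1) → Γ(D.L, ⊤) := ![G β • D.σ 0 + G γ • D.σ 2,
    G δ • D.σ 1 + G μ • D.σ 0 + G ν • D.σ 2, D.σ 2]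
  have hspan : ∀ s : Γ(D.L, ⊤), ∃ c : Fin (2 + 1) → k, ∑ i, G (c i) • σ i = s := fun s => by
    obtain ⟨c, rfl⟩ := D.span s
    refine ⟨![(c 0 - c 1 / δ * μ) / β, c 1 / δ, c 2 - (c 0 - c 1 / δ * μ) / β * γ - c 1 / δ * ν], ?_⟩
    rw [Fin.sum_univ_three, Fin.sum_univ_three]
    simp only [σ, Matrix.cons_val_zero, Matrix.cons_val_one, Matrix.cons_val, smul_add, smul_smul, ← map_mul]
    have e0 : (c 0 - c 1 / δ * μ) / β * β = c 0 - c 1 / δ * μ := div_mul_cancel₀ _ hβ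
    have e1 : c 1 / δ * δ = c 1 := div_mul_cancel₀ _ hδ
    rw [e0, e1]
    simp only [map_sub, sub_smul, G, q]
    abel
  have hcov : ∀ x : X, ∃ i, x ∈ glocus D.L (σ i) := fun x => by
    by_contra hcon
    push Not at hcon
    obtain ⟨i, hi⟩ := D.cov x
    obtain ⟨c, hc⟩ := hspan (D.σ i)
    rw [← hc, mem_glocus_iff_germ D.hL, map_sum] at hi
    refine hi (Submodule.sum_mem _ fun l _ => ?_)
    rw [QCohLoc.germ_smul']
    exact Submodule.smul_mem _ _ (not_not.1 ((mem_glocus_iff_germ D.hL _ x).not.1 (hcon l)))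
  have hπm : X.presheaf.germ D.W P D.mem D.π ∈ IsLocalRing.maximalIdeal (X.presheaf.stalk P) :=
    D.span_π ▸ Ideal.mem_span_singleton_self _
  have hadd : ∀ {x y : X.presheaf.stalk P}, IsUnit x → y ∈ IsLocalRing.maximalIdeal (X.presheaf.stalk P) →
      IsUnit (x + y) := fun hx hy => by
    by_contra h
    have := Ideal.sub_mem _ ((IsLocalRing.mem_maximalIdeal _).2 h) hy
    rw [add_sub_cancel_right] at this
    exact this hx
  let D' : CubicData k P :=
    { L := D.L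
      hL := D.hL
      deg_eq := D.deg_eq
      σ := σ
      span := hspan
      cov := hcov
      W := D.W
      mem := D.mem
      e := D.e
      gen := D.gen
      a := g β * D.a + g γ * D.π ^ 2
      b := g δ * D.b + g μ * (D.a * D.π) + g ν * D.π ^ 3
      π := D.π
      eq₀ := by
        show resM D.L le_top (G β • D.σ 0 + G γ • D.σ 2) = _
        rw [map_add, resM_smul, resM_smul, D.eq₀, D.eq₂, smul_smul, smul_smul, ← add_smul]
        congr 1
        show g β * (D.a * D.π) + g γ * D.π ^ 3 = _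
        ring
      eq₁ := by
        show resM D.L le_top (G δ • D.σ 1 + G μ • D.σ 0 + G ν • D.σ 2) = _
        rw [map_add, map_add, resM_smul, resM_smul, resM_smul, D.eq₀, D.eq₁, D.eq₂, smul_smul, smul_smul,
          smul_smul, ← add_smul, ← add_smul]
        rfl
      eq₂ := D.eq₂
      unit_a := by
        simp only [map_add, map_mul, map_pow]
        exact hadd ((isUnit_germ_gl D.mem hβ).mul D.unit_a)
          (Ideal.mul_mem_left _ _ (Ideal.pow_mem_of_mem _ hπm 2 two_pos))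
      unit_b := by
        simp only [map_add, map_mul, map_pow]
        exact hadd (hadd ((isUnit_germ_gl D.mem hδ).mul D.unit_b)
          (Ideal.mul_mem_left _ _ (Ideal.mul_mem_left _ _ hπm)))
          (Ideal.mul_mem_left _ _ (Ideal.pow_mem_of_mem _ hπm 3 three_pos))
      span_π := D.span_π }
  refine ⟨D', ?_, ?_, (evalAt_X_two D').trans (evalAt_X_two D).symm⟩
  · rw [evalAt_X_zero, map_add D.evalAt, map_mul D.evalAt, map_mul D.evalAt, evalAt_C, evalAt_C, evalAt_X_zero,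
      evalAt_X_two]
    show X.presheaf.germ D.W P D.mem (g β * D.a + g γ * D.π ^ 2) * X.presheaf.germ D.W P D.mem D.π = _
    rw [map_add, map_mul, map_mul, map_pow, germ_gl_eq, germ_gl_eq]
    ring
  · rw [evalAt_X_one, map_add D.evalAt, map_add D.evalAt, map_mul D.evalAt, map_mul D.evalAt, map_mul D.evalAt,
      evalAt_C, evalAt_C, evalAt_C, evalAt_X_zero,
      evalAt_X_one, evalAt_X_two]
    show X.presheaf.germ D.W P D.mem (g δ * D.b + g μ * (D.a * D.π) + g ν * D.π ^ 3) = _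
    simp only [g, q, map_add, map_mul, map_pow, germ_gl_eq]

variable [IsIntegral X] [IsProper (X ↘ Spec (CommRingCat.of k))]

theorem exists_legendre [IsAlgClosed k] (h2 : (2 : k) ≠ 0) [GeometricallyIntegral (X ↘ Spec (CommRingCat.of k))]
    (hdim : topologicalKrullDim X = 1)
    (h0 : Module.finrank k (Coh.HH X (Coh.structureModule X) 0) = 1) (hg : Curv2.genus k X = 1)
    (hP : IsClosed ({P} : Set X)) (hN : Pi1.IsNormalScheme X)
    (hres : letI := Curv2.resAlgebra k X P; Module.finrank k (X.residueField P) = 1) :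
    ∃ (l : k) (W : LefPen.Form 2 k 3), l ≠ 0 ∧ l ≠ 1 ∧
      (W : MvPolynomial (Fin (2 + 1)) k) = MvPolynomial.X 1 ^ 2 * MvPolynomial.X 2 - MvPolynomial.X 0 * (MvPolynomial.X 0 - MvPolynomial.X 2) * (MvPolynomial.X 0 - MvPolynomial.C l * MvPolynomial.X 2) ∧
      ∃ e : X ≅ (LefPen.hypIdeal W).subscheme,
        e.hom ≫ (LefPen.hypIdeal W).subschemeι ≫ CohB1.ProjSpace.toSpec 2 k = X ↘ (Spec (CommRingCat.of k)) := by
  obtain ⟨D, a₁, a₂, a₃, a₄, a₆, W, hWe, hW⟩ := exists_weierstrass_data hdim h0 hg hP (hN P).2 hres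
  let μ := a₁ / 2
  let ν := a₃ / 2
  obtain ⟨D₁, hX₀, hY₀, hZ₀⟩ := exists_change D 1 0 1 μ ν one_ne_zero one_ne_zero
  let A := a₂ + μ ^ 2
  let B := a₄ + 2 * μ * ν
  let C₀ := a₆ + ν ^ 2
  obtain ⟨e₀, he₀⟩ := IsAlgClosed.exists_root
    (Polynomial.X ^ 3 + Polynomial.C A * Polynomial.X ^ 2 + Polynomial.C B * Polynomial.X + Polynomial.C C₀)
    (ne_of_eq_of_ne (show _ = (3 : WithBot ℕ) by compute_degree!) (by decide))
  obtain ⟨e₁, he₁⟩ := IsAlgClosed.exists_root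
    (Polynomial.X ^ 2 + Polynomial.C (A + e₀) * Polynomial.X + Polynomial.C (B + A * e₀ + e₀ ^ 2))
    (ne_of_eq_of_ne (show _ = (2 : WithBot ℕ) by compute_degree!) (by decide))
  simp only [Polynomial.IsRoot.def, Polynomial.eval_add, Polynomial.eval_mul, Polynomial.eval_pow,
    Polynomial.eval_X, Polynomial.eval_C] at he₀ he₁
  obtain ⟨e₂, he₂⟩ : ∃ e₂, e₂ = -A - e₀ - e₁ := ⟨_, rfl⟩
  have hA : A = -(e₀ + e₁ + e₂) := by linear_combination he₂
  have hB : B = e₀ * e₁ + e₁ * e₂ + e₀ * e₂ := by linear_combination he₁ - (e₀ + e₁) * he₂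
  have hC : C₀ = -(e₀ * e₁ * e₂) := by
    linear_combination he₀ - e₀ ^ 2 * hA - e₀ * hB
  let M₀ : MvPolynomial (Fin (2 + 1)) k := MvPolynomial.X 1 ^ 2 * MvPolynomial.X 2 -
    (MvPolynomial.X 0 - MvPolynomial.C e₀ * MvPolynomial.X 2) *
    (MvPolynomial.X 0 - MvPolynomial.C e₁ * MvPolynomial.X 2) *
    (MvPolynomial.X 0 - MvPolynomial.C e₂ * MvPolynomial.X 2)
  have hX : ∀ l, (MvPolynomial.X l : MvPolynomial (Fin (2 + 1)) k).IsHomogeneous 1 :=
    fun l => MvPolynomial.isHomogeneous_X k l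
  have hlin : ∀ c : k, (MvPolynomial.X 0 - MvPolynomial.C c * MvPolynomial.X 2 :
      MvPolynomial (Fin (2 + 1)) k).IsHomogeneous 1 := fun c =>
    (hX 0).sub ((MvPolynomial.isHomogeneous_C _ c).mul (hX 2))
  let W₁ : LefPen.Form 2 k 3 := ⟨M₀, (((hX 1).pow 2).mul (hX 2)).sub (((hlin e₀).mul (hlin e₁)).mul (hlin e₂))⟩
  let ι := stalkConst k P
  have hμ : ι a₁ = 2 * ι μ := by rw [← map_ofNat ι 2, ← map_mul, mul_div_cancel₀ _ h2]
  have hν : ι a₃ = 2 * ι ν := by rw [← map_ofNat ι 2, ← map_mul, mul_div_cancel₀ _ h2]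
  have hW₁ : D₁.evalAt W₁.1 = 0 := by
    show D₁.evalAt M₀ = 0
    rw [hWe] at hW
    simp only [M₀, map_add, map_sub, map_mul, map_pow, evalAt_C, hX₀, hY₀, hZ₀, map_one, map_zero, one_mul,
      zero_mul, add_zero] at hW ⊢
    have iA : ι A = -(ι e₀ + ι e₁ + ι e₂) := by rw [hA]; simp
    have iB : ι B = ι e₀ * ι e₁ + ι e₁ * ι e₂ + ι e₀ * ι e₂ := by rw [hB]; simp
    have iC : ι C₀ = -(ι e₀ * ι e₁ * ι e₂) := by rw [hC]; simp
    have jA : ι A = ι a₂ + ι μ ^ 2 := by simp [A]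
    have jB : ι B = ι a₄ + 2 * ι μ * ι ν := by simp [B, map_ofNat]
    have jC : ι C₀ = ι a₆ + ι ν ^ 2 := by simp [C₀]
    linear_combination hW - D.evalAt (MvPolynomial.X 0) * D.evalAt (MvPolynomial.X 1) * D.evalAt (MvPolynomial.X 2) * hμ
      - D.evalAt (MvPolynomial.X 1) * D.evalAt (MvPolynomial.X 2) ^ 2 * hν
      + D.evalAt (MvPolynomial.X 0) ^ 2 * D.evalAt (MvPolynomial.X 2) * (iA - jA)
      + D.evalAt (MvPolynomial.X 0) * D.evalAt (MvPolynomial.X 2) ^ 2 * (iB - jB)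
      + D.evalAt (MvPolynomial.X 2) ^ 3 * (iC - jC)
  have hW₁0 : W₁.1 ≠ 0 := fun h => by
    have h' := congrArg (MvPolynomial.eval ![1, 0, 0]) h
    simp [W₁, M₀] at h'
  obtain ⟨i₁, hi₁⟩ := D₁.exists_iso hdim h0 hg W₁ hW₁0 hW₁
  haveI : IsIntegral (LefPen.hypIdeal W₁).subscheme := by
    haveI : Nonempty (LefPen.hypIdeal W₁).subscheme := ⟨i₁.hom P⟩
    exact isIntegral_of_isOpenImmersion i₁.inv
  have hN₁ : Pi1.IsNormalScheme (LefPen.hypIdeal W₁).subscheme := fun x => by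
    let E := (asIso (i₁.inv.stalkMap x)).commRingCatIsoToRingEquiv
    haveI := (hN (i₁.inv x)).1
    haveI := (hN (i₁.inv x)).2
    exact ⟨E.symm.toMulEquiv.isDomain _, IsIntegrallyClosed.of_equiv E⟩
  have hne : e₁ ≠ e₀ ∧ e₂ ≠ e₀ ∧ e₂ ≠ e₁ := by
    refine ⟨?_, ?_, ?_⟩ <;> intro h <;> subst h
    · exact false_of_double_root e₁ e₂ W₁ (by simp only [W₁, M₀]; ring) hN₁
    · exact false_of_double_root e₂ e₁ W₁ (by simp only [W₁, M₀]; ring) hN₁
    · exact false_of_double_root e₂ e₀ W₁ (by simp only [W₁, M₀]; ring) hN₁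
  let β := e₁ - e₀
  have hβ : β ≠ 0 := sub_ne_zero.2 hne.1
  obtain ⟨s, hs⟩ := IsAlgClosed.exists_pow_nat_eq β two_pos
  have hs0 : s ≠ 0 := fun h => hβ (by rw [← hs, h, zero_pow two_ne_zero])
  obtain ⟨D₂, hx, hy, hz⟩ := exists_change D₁ β⁻¹ (-(β⁻¹ * e₀)) (s ^ 3)⁻¹ 0 0 (inv_ne_zero hβ)
    (inv_ne_zero (pow_ne_zero 3 hs0))
  let l := (e₂ - e₀) / β
  let W₂ : LefPen.Form 2 k 3 := ⟨MvPolynomial.X 1 ^ 2 * MvPolynomial.X 2 - MvPolynomial.X 0 *
    (MvPolynomial.X 0 - MvPolynomial.X 2) * (MvPolynomial.X 0 - MvPolynomial.C l * MvPolynomial.X 2),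
    (((hX 1).pow 2).mul (hX 2)).sub (((hX 0).mul ((hX 0).sub (hX 2))).mul (hlin l))⟩
  refine ⟨l, W₂, div_ne_zero (sub_ne_zero.2 hne.2.1) hβ, fun h => hne.2.2 ?_, rfl,
    D₂.exists_iso hdim h0 hg W₂ (fun h => ?_) ?_⟩
  · have h' := (div_eq_one_iff_eq hβ).1 h
    linear_combination h'
  · have h' := congrArg (MvPolynomial.eval ![1, 0, 0]) h
    simp [W₂] at h'
  · show D₂.evalAt (MvPolynomial.X 1 ^ 2 * MvPolynomial.X 2 - MvPolynomial.X 0 *
      (MvPolynomial.X 0 - MvPolynomial.X 2) * (MvPolynomial.X 0 - MvPolynomial.C l * MvPolynomial.X 2)) = 0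
    change D₁.evalAt M₀ = 0 at hW₁
    simp only [M₀, map_sub, map_mul, map_pow, evalAt_C] at hW₁
    simp only [map_add, map_sub, map_mul, map_pow, map_neg, map_zero, evalAt_C, hx, hy, hz, zero_mul, add_zero]
    have r1 : ι β⁻¹ * ι β = 1 := by rw [← map_mul, inv_mul_cancel₀ hβ, map_one]
    have r2 : ι (s ^ 3)⁻¹ ^ 2 = ι β⁻¹ ^ 3 := by
      rw [← map_pow, ← map_pow, inv_pow, inv_pow, ← pow_mul, show 3 * 2 = 2 * 3 from rfl, pow_mul, hs]
    have r3 : ι l * ι β = ι e₂ - ι e₀ := by rw [← map_mul, div_mul_cancel₀ _ hβ, map_sub]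
    have r4 : ι β = ι e₁ - ι e₀ := map_sub _ _ _
    set x := D₁.evalAt (MvPolynomial.X 0)
    set y := D₁.evalAt (MvPolynomial.X 1)
    set z := D₁.evalAt (MvPolynomial.X 2)
    have q1 : ι β⁻¹ * x + -(ι β⁻¹ * ι e₀) * z - z = ι β⁻¹ * (x - ι e₁ * z) := by
      linear_combination z * r1 - z * ι β⁻¹ * r4
    have q2 : ι β⁻¹ * x + -(ι β⁻¹ * ι e₀) * z - ι l * z = ι β⁻¹ * (x - ι e₂ * z) := by
      linear_combination (ι l * z) * r1 - (ι β⁻¹ * z) * r3
    rw [q1, q2]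
    linear_combination ι β⁻¹ ^ 3 * hW₁ + (y ^ 2 * z) * r2

end Groth.Agent.LefPen24
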