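import Groth.Agent.LefPen24.PlaneSpecial
import Groth.Agent.Clifford24.NotHyp
import Groth.Agent.CurveRR24.VeryAmpleField
import Groth.Agent.SGA3cLib.CentralDescent
import Groth.Agent.AbVarLib.GeomIntegralSmooth
import Groth.Agent.VarietyLib.SmoothStalk

/-!
# A curve with a special very ample line bundle has no geometric `g¹₂`
-/

set_option autoImplicit false
set_option linter.style.haveILetI false
set_option linter.unusedSectionVars false
set_option backward.isDefEq.respectTransparency.types false
set_option maxHeartbeats 1000000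

universe u

open CategoryTheory CategoryTheory.Limits AlgebraicGeometry Opposite TopologicalSpace
open Groth.Agent.Coherent Groth.Agent.PicLib Groth.Agent.AmpleLib Groth.Agent.EulerLib Groth.Agent.CurveRR24

namespace Groth.Agent.LefPen24

variable {k : Type u} [Field k] {K : Type u} [Field K] [Algebra k K] [IsAlgClosed K] {X X' : Scheme.{u}}
  [X.Over (Spec (CommRingCat.of k))] [X'.Over (Spec (CommRingCat.of K))]
  [IsProper (X ↘ Spec (CommRingCat.of k))] [Smooth (X ↘ Spec (CommRingCat.of k))]
  {g : X' ⟶ X}

/-- The base change of a smooth proper curve with only constant functions. -/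
theorem bc_curve (h0 : Module.finrank k (Coh.HH X (Coh.structureModule X) 0) = 1)
    (hdim : topologicalKrullDim X = 1)
    (h : IsPullback g (X' ↘ Spec (CommRingCat.of K)) (X ↘ Spec (CommRingCat.of k))
      (Spec.map (CommRingCat.ofHom (algebraMap k K)))) :
    IsProper (X' ↘ Spec (CommRingCat.of K)) ∧ Smooth (X' ↘ Spec (CommRingCat.of K)) ∧
      GeometricallyIntegral (X' ↘ Spec (CommRingCat.of K)) ∧ IsIntegral X' ∧ topologicalKrullDim X' = 1 := by
  haveI := isNoetherian_of_proper k (X := X)
  haveI hp : IsProper (X' ↘ Spec (CommRingCat.of K)) := MorphismProperty.of_isPullback (P := @IsProper) h inferInstance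
  haveI hs : Smooth (X' ↘ Spec (CommRingCat.of K)) := MorphismProperty.of_isPullback (P := @Smooth) h inferInstance
  haveI : ConnectedSpace X' := connectedSpace_of_finrank K ((finrank_HH_structure_bc h 0).trans h0)
  haveI := SGA3cLib.CentralDescent.geometricallyConnected_of_isAlgClosed (X' ↘ Spec (CommRingCat.of K))
  haveI hG := AbVarLib.geometricallyIntegral_of_smooth (X' ↘ Spec (CommRingCat.of K))
  refine ⟨hp, hs, hG, GeometricallyIntegral.isIntegral_of_subsingleton (X' ↘ Spec (CommRingCat.of K)), ?_⟩
  let e := h.isoPullback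
  exact (e.hom.homeomorph.isHomeomorph.topologicalKrullDim_eq).trans
    ((DimLib.topologicalKrullDim_bc (X ↘ Spec (CommRingCat.of k)) K).trans hdim)

/-- A special line bundle embedding the curve forbids a `g¹₂` over any algebraically closed extension. -/
theorem false_of_g12 (h0 : Module.finrank k (Coh.HH X (Coh.structureModule X) 0) = 1)
    (hdim : topologicalKrullDim X = 1) (hg : 2 ≤ Curv2.genus k X) {n : ℕ}
    (i : X ⟶ CohB1.ProjSpace n k) [IsClosedImmersion i]
    (hi : i ≫ CohB1.ProjSpace.toSpec n k = X ↘ Spec (CommRingCat.of k))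
    (h1 : 1 ≤ Module.finrank k (Coh.HH X (EmbLib24.pbO i) 1))
    (h : IsPullback g (X' ↘ Spec (CommRingCat.of K)) (X ↘ Spec (CommRingCat.of k))
      (Spec.map (CommRingCat.ofHom (algebraMap k K))))
    {M : X'.Modules} (hM : PicF.IsInvertible M) (hd : Curv2.deg K X' M 1 = 2)
    (h2 : 2 ≤ Module.finrank K (Coh.HH X' M 0)) : False := by
  haveI := isNoetherian_of_proper k (X := X)
  obtain ⟨hp, hs, hG, hint, hdim'⟩ := bc_curve (g := g) h0 hdim h
  haveI := isNoetherian_of_proper K (X := X')
  let T := Twist.twistProjSpace n k 1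
  let A := EmbLib24.pbO i
  have hA : PicF.IsInvertible A := PicLoc.isInvertible_pullback i (SerreDual.isInvertible_twist n k 1)
  haveI : Coh.IsQCoh A := (PicLib.isCoh_of_isInvertible hA).1
  let A' := (Scheme.Modules.pullback g).obj A
  have hA' : PicF.IsInvertible A' := PicLoc.isInvertible_pullback g hA
  have hcov' : ∀ x : X', ∃ j, x ∈ glocus A' (pullSec g (EmbLib24.sig i j)) := fun x => by
    obtain ⟨j, hj⟩ := EmbLib24.exists_chart_mem (i (g x))
    exact ⟨j, (glocus_pullSec g hA (EmbLib24.sig i j)).ge ((EmbLib24.preimage_chart i j).le hj)⟩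
  obtain ⟨r', hr', τ', hτ'⟩ := UPLib.exists_hom_projSpace n (X' ↘ Spec (CommRingCat.of K)) hA'
    (fun j => pullSec g (EmbLib24.sig i j)) hcov'
  have hsq : r' ≫ projBC k K n = g ≫ i :=
    comp_projBC_eq g h.w hA hi (Iso.refl A) hr' τ' fun j => hτ' j
  have hP : IsPullback g r' i (projBC k K n) := by
    refine IsPullback.of_bot ?_ hsq.symm (isPullback_projSpace n k K)
    rw [hi, hr']
    exact h
  haveI : IsClosedImmersion r' := MorphismProperty.of_isPullback (P := @IsClosedImmersion) hP inferInstance
  have hdrop := fun (P Q : X') (hP : IsClosed ({P} : Set X')) (hQ : IsClosed ({Q} : Set X')) =>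
    drop_of_closedImmersion K hdim'
      (fun z => Groth.Agent.VarietyLib.isRegularLocalRing_stalk_of_smooth K X' (X' ↘ Spec (CommRingCat.of K)) z)
      hA' r' hr' τ' hP hQ
  have hz := Clifford24.h1_eq_zero_of_drop_of_g12 K hdim' ((genus_bc h).symm ▸ hg) hA' hdrop hM hd h2
  rw [finrank_HH_bc h A 1] at hz
  have h1' : 1 ≤ Module.finrank k (Coh.HH X A 1) := h1
  omega

end Groth.Agent.LefPen24
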