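import Groth.Agent.LefPen24.PlaneCurve
import Groth.Agent.Coherent.ProjFormula
import Groth.Agent.EmbLib24.Criterion
import Groth.Agent.EulerLib.Twist
import Groth.Agent.SerreDual.ProjDualAll
import Groth.Agent.PicLib.FormalGen
import Groth.Agent.PicLib.FiniteSetTriv
import Groth.Agent.SerreDual.Projective
import Groth.Agent.AmpleLib.Tensor

/-!
# `O(1)` on a plane curve of degree `≥ 4` is special
-/

set_option autoImplicit false
set_option linter.style.haveILetI false
set_option backward.isDefEq.respectTransparency.types false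

universe u

open CategoryTheory CategoryTheory.Limits AlgebraicGeometry Opposite TopologicalSpace
open Groth.Agent.Coherent Groth.Agent.EulerLib Groth.Agent.CurveRR24 Groth.Agent.PicLib Groth.Agent.AmpleLib

namespace Groth.Agent.LefPen24

variable {k : Type u} [Field k]

local notation "P2" => CohB1.ProjSpace 2 k

noncomputable local instance overP2' : (CohB1.ProjSpace 2 k).Over (Spec (CommRingCat.of k)) :=
  inferInstance

/-- `H¹(C, O(1)) ≠ 0` for a plane curve of degree `≥ 4`. -/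
theorem one_le_finrank_h1_twist {d : ℕ} (G : LefPen.Form 2 k d) (hG : G ≠ 0) (hd : 4 ≤ d)
    [inst : ((LefPen.hypIdeal G).subscheme).Over (Spec (CommRingCat.of k))]
    (hinst : (LefPen.hypIdeal G).subscheme ↘ (Spec (CommRingCat.of k)) =
      (LefPen.hypIdeal G).subschemeι ≫ CohB1.ProjSpace.toSpec 2 k) :
    1 ≤ Module.finrank k (Coh.HH (LefPen.hypIdeal G).subscheme
      (EmbLib24.pbO (LefPen.hypIdeal G).subschemeι) 1) := by
  haveI : IsProper (CohB1.ProjSpace.toSpec 2 k) := CurveLib.isProper_projSpace k 2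
  haveI : IsProper ((LefPen.hypIdeal G).subscheme ↘ Spec (CommRingCat.of k)) := by
    rw [hinst]; infer_instance
  let I := LefPen.hypIdeal G
  let ι := I.subschemeι
  let T := Twist.twistProjSpace 2 k 1
  let C := I.subscheme
  have hT : PicF.IsInvertible T := SerreDual.isInvertible_twist 2 k 1
  have hA : PicF.IsInvertible (EmbLib24.pbO ι) := PicLoc.isInvertible_pullback ι hT
  haveI := isNoetherian_of_proper k (X := C)
  haveI := finite_HH_of_isCoh k (PicLib.isCoh_of_isInvertible hA) 1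
  have hS := twistSeq_shortExact hT (shortExact_ideal I)
  let φ := baseHom k P2
  obtain ⟨eI⟩ := nonempty_idealMod_iso G hG
  obtain ⟨j, hj⟩ : ∃ j, d = 4 + j := ⟨d - 4, by omega⟩
  obtain ⟨eT⟩ := SerreDual.nonempty_twist_tensor (n := 2) (k := k)
    (show (-(d : ℤ)) + 1 = -(((2 : ℕ) : ℤ) + 1 + (j : ℤ)) by omega)
  let e1 := AmpleLib.tensorIso eI (Iso.refl T) ≪≫ eT
  have h2 : Nontrivial (Coh.HH P2 (CohB1.tensorMod (ClSub.idealMod I) T) 2) := by
    obtain ⟨e⟩ := Groth.Agent.Coherent.nonempty_HH_top_twist (n := 2) (R := k) j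
    refine Module.nontrivial_of_finrank_pos (R := k) ?_
    rw [(SerreDual.hmapIso k e1 2).finrank_eq, e.finrank_eq, GrLib.finrank_homogeneous]
    exact Nat.choose_pos (by omega)
  haveI : Nontrivial (HA φ (CohB1.tensorMod (ClSub.idealMod I) T) (⊤ : (P2).Opens) 2) :=
    (HHBaseEquiv k _ 2).symm.toEquiv.nontrivial
  haveI : Subsingleton (HA φ (CohB1.tensorMod (Coh.structureModule P2) T) (⊤ : (P2).Opens) 2) := by
    haveI := subsingleton_HH_twist (n := 2) (R := k) (d := 1) 2 (by omega) (by omega)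
    haveI : Subsingleton (Coh.HH P2 (CohB1.tensorMod (Coh.structureModule P2) T) 2) :=
      (SerreDual.hmapIso k (unitTensorIso T) 2).toEquiv.subsingleton
    exact (HHBaseEquiv k _ 2).symm.toEquiv.subsingleton
  let S := twistSeq (ShortComplex.mk (ClSub.idealModι I) (ClSub.toSubscheme I)
    (kernel.condition (ClSub.toSubscheme I))) T
  haveI : Subsingleton (HA φ S.X₂ (⊤ : (P2).Opens) 2) :=
    ‹Subsingleton (HA φ (CohB1.tensorMod (Coh.structureModule P2) T) (⊤ : (P2).Opens) 2)›
  haveI : Nontrivial (HA φ S.X₁ (⊤ : (P2).Opens) 2) :=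
    ‹Nontrivial (HA φ (CohB1.tensorMod (ClSub.idealMod I) T) (⊤ : (P2).Opens) 2)›
  have hsurj : Function.Surjective (deltaA φ hS (⊤ : (P2).Opens) 1) :=
    fun z => (exact_deltaA_postA φ hS ⊤ 1 z).1 (Subsingleton.elim _ _)
  haveI : Nontrivial (HA φ (CohB1.tensorMod (ClSub.quotMod I) T) (⊤ : (P2).Opens) 1) :=
    (hsurj.nontrivial : Nontrivial (HA φ S.X₃ (⊤ : (P2).Opens) 1))
  haveI : Nontrivial (Coh.HH P2 (CohB1.tensorMod (ClSub.quotMod I) T) 1) :=
    (HHBaseEquiv k _ 1).toEquiv.nontrivial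
  have hTF : FlatMod.IsFinLocFree T := fun x =>
    let ⟨U, hx, e⟩ := PicLib.isFinLocFreeOfRank_one hT x; ⟨U, 1, hx, e⟩
  let O := Coh.structureModule C
  let A' := CohB1.tensorMod ((Scheme.Modules.pullback ι).obj T) O
  haveI : Coh.IsQCoh A' :=
    (isCoh_iso (tensorComm _ _) (isCoh_twist (F := O) hA (isCoh_structureModule C))).1
  have ec : CohB1.tensorMod (ClSub.quotMod I) T ≅ (Coh.push ι).obj A' :=
    tensorComm _ _ ≪≫ (projIso (f := ι) hTF).app O
  haveI : Nontrivial (Coh.HH P2 ((Coh.push ι).obj A') 1) :=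
    (SerreDual.hmapIso k ec 1).symm.toEquiv.nontrivial
  haveI : Nontrivial (Coh.HH C A' 1) := (SerreDual.hpush ι k hinst.symm A' 1).toEquiv.nontrivial
  haveI : Nontrivial (Coh.HH C (EmbLib24.pbO ι) 1) :=
    (SerreDual.hmapIso k (tensorComm _ O ≪≫ unitTensorIso (EmbLib24.pbO ι)) 1).symm.toEquiv.nontrivial
  exact Module.finrank_pos

end Groth.Agent.LefPen24
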