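import Groth.Agent.LefPen24.CubicSections
import Groth.Agent.LefPen24.CubicForm
import Groth.Agent.LefPen24.DehomEval
import Groth.Agent.LefPen24.PlaneImage
import Groth.Agent.CurveRR24.VeryAmpleSpan

/-!
# Genus one curves with a rational point as Weierstrass cubics
-/

set_option autoImplicit false
set_option linter.style.haveILetI false
set_option backward.isDefEq.respectTransparency.types false
set_option maxHeartbeats 1000000

universe u

open CategoryTheory CategoryTheory.Limits AlgebraicGeometry Opposite TopologicalSpace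
open Groth.Agent.Coherent Groth.Agent.PicLib Groth.Agent.AmpleLib Groth.Agent.EulerLib Groth.Agent.CurveRR24

namespace Groth.Agent.LefPen24

variable {k : Type u} [Field k] {X : Scheme.{u}} [X.Over (Spec (CommRingCat.of k))]

/-- Constants in the stalk. -/
noncomputable def stalkConst (k : Type u) [Field k] {X : Scheme.{u}} [X.Over (Spec (CommRingCat.of k))]
    (P : X) : k →+* X.presheaf.stalk P :=
  (X.presheaf.germ (⊤ : X.Opens) P trivial).hom.comp (ProjUP.toGlobal (X ↘ Spec (CommRingCat.of k)))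

theorem germ_gl_eq {W : X.Opens} {P : X} (hP : P ∈ W) (c : k) :
    X.presheaf.germ W P hP (EmbLib24.gl (X ↘ Spec (CommRingCat.of k)) W c) = stalkConst k P c :=
  EmbLib24.germ_gl _ hP c

variable {P : X}

/-- Scale the first two sections. -/
noncomputable def CubicData.scale (D : CubicData k P) (α : k) (hα : α ≠ 0) : CubicData k P where
  L := D.L
  hL := D.hL
  deg_eq := D.deg_eq
  σ := ![ProjUP.toGlobal (X ↘ Spec (CommRingCat.of k)) α • D.σ 0,
    ProjUP.toGlobal (X ↘ Spec (CommRingCat.of k)) α • D.σ 1, D.σ 2]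
  span s := by
    obtain ⟨c, hc⟩ := D.span s
    refine ⟨![c 0 / α, c 1 / α, c 2], ?_⟩
    rw [← hc, Fin.sum_univ_three, Fin.sum_univ_three]
    simp only [Matrix.cons_val_zero, Matrix.cons_val_one, Matrix.cons_val, smul_smul, ← map_mul,
      div_mul_cancel₀ _ hα]
  cov x := by
    obtain ⟨i, hi⟩ := D.cov x
    refine ⟨i, ?_⟩
    have hu : IsUnit (ProjUP.toGlobal (X ↘ Spec (CommRingCat.of k)) α) := (IsUnit.mk0 α hα).map _
    have key : ∀ t : Γ(D.L, ⊤), x ∈ glocus D.L t →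
        x ∈ glocus D.L (ProjUP.toGlobal (X ↘ Spec (CommRingCat.of k)) α • t) := fun t ht => by
      have h := (isGen_glocus t).smul_unit (hu.map (X.presheaf.map (homOfLE (le_top : glocus D.L t ≤ ⊤)).op).hom).unit
      rw [IsUnit.unit_spec, ← resM_smul] at h
      exact (le_glocus_iff _ _).2 h ht
    fin_cases i
    · exact key _ hi
    · exact key _ hi
    · exact hi
  W := D.W
  mem := D.mem
  e := D.e
  gen := D.gen
  a := EmbLib24.gl (X ↘ Spec (CommRingCat.of k)) D.W α * D.a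
  b := EmbLib24.gl (X ↘ Spec (CommRingCat.of k)) D.W α * D.b
  π := D.π
  eq₀ := by
    show resM D.L le_top (ProjUP.toGlobal (X ↘ Spec (CommRingCat.of k)) α • D.σ 0) = _
    rw [resM_smul, D.eq₀, smul_smul, mul_assoc]
    rfl
  eq₁ := by
    show resM D.L le_top (ProjUP.toGlobal (X ↘ Spec (CommRingCat.of k)) α • D.σ 1) = _
    rw [resM_smul, D.eq₁, smul_smul]
    rfl
  eq₂ := D.eq₂
  unit_a := by rw [map_mul]; exact (isUnit_germ_gl D.mem hα).mul D.unit_a
  unit_b := by rw [map_mul]; exact (isUnit_germ_gl D.mem hα).mul D.unit_b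
  span_π := D.span_π

variable [IsIntegral X] [IsProper (X ↘ Spec (CommRingCat.of k))]

/-- The embedding attached to cubic data, with the criterion for a form to vanish on the image. -/
theorem CubicData.exists_embedding [GeometricallyIntegral (X ↘ Spec (CommRingCat.of k))]
    (hdim : topologicalKrullDim X = 1)
    (h0 : Module.finrank k (Coh.HH X (Coh.structureModule X) 0) = 1) (hg : Curv2.genus k X = 1)
    (D : CubicData k P) :
    ∃ (i : X ⟶ CohB1.ProjSpace 2 k), IsClosedImmersion i ∧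
      i ≫ CohB1.ProjSpace.toSpec 2 k = X ↘ Spec (CommRingCat.of k) ∧
      ∃ u w : X.presheaf.stalk P,
        u * X.presheaf.germ D.W P D.mem D.b = X.presheaf.germ D.W P D.mem D.a * X.presheaf.germ D.W P D.mem D.π ∧
        w * X.presheaf.germ D.W P D.mem D.b = X.presheaf.germ D.W P D.mem D.π ^ 3 ∧
        ∀ {d : ℕ} (G : LefPen.Form 2 k d), (G : MvPolynomial (Fin (2 + 1)) k) ∈ imagePrime i ↔
          MvPolynomial.eval₂ (stalkConst k P) ![u, 1, w] (G : MvPolynomial (Fin (2 + 1)) k) = 0 := by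
  classical
  let q := X ↘ Spec (CommRingCat.of k)
  obtain ⟨r, hr, τ, hτ⟩ := UPLib.exists_hom_projSpace 2 q D.hL D.σ D.cov
  haveI := isClosedImmersion_of_span k hdim h0 D.hL (by rw [D.deg_eq, hg]; norm_num) D.σ D.span r hr τ hτ
  refine ⟨r, inferInstance, hr, ?_⟩
  have hpre : r ⁻¹ᵁ LefPen.chart 2 k 1 = glocus D.L (D.σ 1) := by
    rw [← show τ.hom.app ⊤ (EmbLib24.sig r 1) = D.σ 1 from hτ 1, glocus_map_iso]
    exact EmbLib24.preimage_chart r 1
  have hP : P ∈ glocus D.L (D.σ 1) := by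
    have h := glocus_inf (D.σ 1) D.gen
    rw [D.gen.coef_eq le_rfl (r := D.b) (by rw [resM_self]; exact D.eq₁.symm)] at h
    exact (h.ge ((X.mem_basicOpen D.b P D.mem).2 D.unit_b)).1
  let W := D.W ⊓ r ⁻¹ᵁ LefPen.chart 2 k 1
  have hPW : P ∈ W := ⟨D.mem, hpre.ge hP⟩
  let c : Fin (2 + 1) → Γ(X, W) := fun l =>
    r.appLE (LefPen.chart 2 k 1) W inf_le_right (EmbLib24.coordFun 2 k 1 l)
  let R : Γ(X, D.W) →+* Γ(X, W) := res inf_le_left
  let g := resM D.L (inf_le_left : W ≤ D.W) D.e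
  have hgen : IsGen D.L W g := D.gen.restrict _
  have hc : ∀ l, c l • resM D.L (le_top : W ≤ ⊤) (D.σ 1) = resM D.L le_top (D.σ l) := fun l => by
    have h := congrArg (τ.hom.app W) (EmbLib24.appLE_coordFun_smul r 1 l W inf_le_right)
    rw [Scheme.Modules.Hom.app_smul, app_resM, app_resM] at h
    rw [← show τ.hom.app ⊤ (EmbLib24.sig r 1) = D.σ 1 from hτ 1,
      ← show τ.hom.app ⊤ (EmbLib24.sig r l) = D.σ l from hτ l]
    exact h
  have hσ : ∀ (l : Fin (2 + 1)) (f : Γ(X, D.W)), resM D.L le_top (D.σ l) = f • D.e →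
      resM D.L (le_top : W ≤ ⊤) (D.σ l) = R f • g := fun l f hf => by
    rw [← resM_resM D.L (le_top : D.W ≤ ⊤) (inf_le_left : W ≤ D.W), hf, resM_smul]
  have key : ∀ (l : Fin (2 + 1)) (f : Γ(X, D.W)), resM D.L le_top (D.σ l) = f • D.e →
      X.presheaf.germ W P hPW (c l) * X.presheaf.germ D.W P D.mem D.b = X.presheaf.germ D.W P D.mem f :=
    fun l f hf => by
      have h := hc l
      rw [hσ 1 D.b D.eq₁, hσ l f hf, smul_smul] at h
      have h2 : c l * R D.b = R f := (hgen W le_rfl).1 (by beta_reduce; rw [resM_self]; exact h)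
      have h3 := congrArg (X.presheaf.germ W P hPW) h2
      rw [map_mul] at h3
      rw [← TopCat.Presheaf.germ_res_apply X.presheaf (homOfLE (inf_le_left : W ≤ D.W)) P hPW D.b,
        ← TopCat.Presheaf.germ_res_apply X.presheaf (homOfLE (inf_le_left : W ≤ D.W)) P hPW f]
      exact h3
  refine ⟨X.presheaf.germ W P hPW (c 0), X.presheaf.germ W P hPW (c 2),
    by rw [key 0 _ D.eq₀, map_mul], by rw [key 2 _ D.eq₂, map_pow], fun {d} G => ?_⟩
  rw [mem_imagePrime_iff r G 1 (inf_le_right : W ≤ r ⁻¹ᵁ LefPen.chart 2 k 1) hPW, appLE_dehom hr]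
  refine iff_of_eq (congrArg (· = 0) ?_)
  refine (MvPolynomial.eval₂_comp_left (X.presheaf.germ W P hPW).hom _ _ _).trans ?_
  rw [show (X.presheaf.germ W P hPW).hom.comp (EmbLib24.gl q W) = stalkConst k P from
    RingHom.ext fun x => germ_gl_eq hPW x]
  refine congrArg (fun v => MvPolynomial.eval₂ (stalkConst k P) v G.1) (funext fun l => ?_)
  fin_cases l
  · rfl
  · show X.presheaf.germ W P hPW (c 1) = 1
    show X.presheaf.germ W P hPW (r.appLE _ W _ (EmbLib24.coordFun 2 k 1 1)) = 1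
    rw [EmbLib24.coordFun_self, map_one, map_one]
  · rfl

/-- Evaluation of a polynomial at the germs of the three local expressions. -/
noncomputable def CubicData.evalAt (D : CubicData k P) :
    MvPolynomial (Fin (2 + 1)) k →+* X.presheaf.stalk P :=
  MvPolynomial.eval₂Hom (stalkConst k P)
    ![X.presheaf.germ D.W P D.mem D.a * X.presheaf.germ D.W P D.mem D.π,
      X.presheaf.germ D.W P D.mem D.b, X.presheaf.germ D.W P D.mem D.π ^ 3]

omit [IsIntegral X] [IsProper (X ↘ Spec (CommRingCat.of k))] in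
theorem CubicData.evalAt_eq (D : CubicData k P) {u w : X.presheaf.stalk P}
    (hu : u * X.presheaf.germ D.W P D.mem D.b = X.presheaf.germ D.W P D.mem D.a * X.presheaf.germ D.W P D.mem D.π)
    (hw : w * X.presheaf.germ D.W P D.mem D.b = X.presheaf.germ D.W P D.mem D.π ^ 3)
    {d : ℕ} (G : LefPen.Form 2 k d) :
    D.evalAt G.1 = X.presheaf.germ D.W P D.mem D.b ^ d *
      MvPolynomial.eval₂ (stalkConst k P) ![u, 1, w] G.1 := by
  rw [← eval₂_mul_of_isHomogeneous _ _ _ G.2]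
  refine congrArg (fun v => MvPolynomial.eval₂ (stalkConst k P) v G.1) (funext fun l => ?_)
  fin_cases l
  · exact hu.symm
  · exact (one_mul _).symm
  · exact hw.symm

omit [IsIntegral X] [IsProper (X ↘ Spec (CommRingCat.of k))] in
theorem CubicData.evalAt_eq_zero (D : CubicData k P) {u w : X.presheaf.stalk P}
    (hu : u * X.presheaf.germ D.W P D.mem D.b = X.presheaf.germ D.W P D.mem D.a * X.presheaf.germ D.W P D.mem D.π)
    (hw : w * X.presheaf.germ D.W P D.mem D.b = X.presheaf.germ D.W P D.mem D.π ^ 3)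
    {d : ℕ} (G : LefPen.Form 2 k d) (h : MvPolynomial.eval₂ (stalkConst k P) ![u, 1, w] G.1 = 0) :
    D.evalAt G.1 = 0 := by
  rw [D.evalAt_eq hu hw, h, mul_zero]

/-- A cubic form vanishing on the local expressions cuts out the curve. -/
theorem CubicData.exists_iso [GeometricallyIntegral (X ↘ Spec (CommRingCat.of k))]
    (hdim : topologicalKrullDim X = 1)
    (h0 : Module.finrank k (Coh.HH X (Coh.structureModule X) 0) = 1) (hg : Curv2.genus k X = 1)
    (D : CubicData k P) (W : LefPen.Form 2 k 3) (hWne : (W : MvPolynomial (Fin (2 + 1)) k) ≠ 0)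
    (hW : D.evalAt W.1 = 0) :
    ∃ e : X ≅ (LefPen.hypIdeal W).subscheme,
      e.hom ≫ (LefPen.hypIdeal W).subschemeι ≫ CohB1.ProjSpace.toSpec 2 k = X ↘ (Spec (CommRingCat.of k)) := by
  obtain ⟨j, _, hj, u', w', hu₁, hw₁, hG'⟩ := D.exists_embedding hdim h0 hg
  obtain ⟨G', hG0', hGp'⟩ := exists_cubic j hj hdim hg
  have hWmem : (W : MvPolynomial (Fin (2 + 1)) k) ∈ imagePrime j := by
    refine (hG' W).2 ?_
    rw [D.evalAt_eq hu₁ hw₁] at hW
    exact (mul_eq_zero.1 hW).resolve_left (pow_ne_zero _ D.unit_b.ne_zero)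
  rw [hGp', Ideal.mem_span_singleton'] at hWmem
  obtain ⟨z, hz⟩ := hWmem
  have hG0'' : (G' : MvPolynomial (Fin (2 + 1)) k) ≠ 0 := fun h => hG0' (Subtype.ext h)
  have hz0 : z ≠ 0 := fun h => hWne (by rw [← hz, h, zero_mul])
  have hzdeg := congrArg MvPolynomial.totalDegree hz
  rw [MvPolynomial.totalDegree_mul_of_isDomain hz0 hG0'', MvPolynomial.IsHomogeneous.totalDegree G'.2 hG0'',
    MvPolynomial.IsHomogeneous.totalDegree W.2 hWne] at hzdeg
  obtain ⟨z₀, rfl⟩ : ∃ z₀, z = MvPolynomial.C z₀ :=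
    ⟨_, MvPolynomial.totalDegree_eq_zero_iff_eq_C.1 (by omega)⟩
  have hpW : imagePrime j = Ideal.span {(W : MvPolynomial (Fin (2 + 1)) k)} := by
    rw [hGp', ← hz]
    refine (Ideal.span_singleton_mul_left_unit ((IsUnit.mk0 z₀ fun h => hz0 ?_).map MvPolynomial.C) _).symm
    rw [h, map_zero]
  obtain ⟨e, he⟩ := exists_iso_hyp j W (fun h => hWne (congrArg Subtype.val h)) hpW
  exact ⟨e, by rw [← Category.assoc, he, hj]⟩

theorem exists_weierstrass_data [GeometricallyIntegral (X ↘ Spec (CommRingCat.of k))]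
    (hdim : topologicalKrullDim X = 1)
    (h0 : Module.finrank k (Coh.HH X (Coh.structureModule X) 0) = 1) (hg : Curv2.genus k X = 1)
    (hP : IsClosed ({P} : Set X)) (hn : IsIntegrallyClosed (X.presheaf.stalk P))
    (hres : letI := Curv2.resAlgebra k X P; Module.finrank k (X.residueField P) = 1) :
    ∃ (D : CubicData k P) (a₁ a₂ a₃ a₄ a₆ : k) (W : LefPen.Form 2 k 3),
      (W : MvPolynomial (Fin (2 + 1)) k) = MvPolynomial.X 1 ^ 2 * MvPolynomial.X 2 + MvPolynomial.C a₁ * MvPolynomial.X 0 * MvPolynomial.X 1 * MvPolynomial.X 2 + MvPolynomial.C a₃ * MvPolynomial.X 1 * MvPolynomial.X 2 ^ 2 - MvPolynomial.X 0 ^ 3 - MvPolynomial.C a₂ * MvPolynomial.X 0 ^ 2 * MvPolynomial.X 2 - MvPolynomial.C a₄ * MvPolynomial.X 0 * MvPolynomial.X 2 ^ 2 - MvPolynomial.C a₆ * MvPolynomial.X 2 ^ 3 ∧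
      D.evalAt W.1 = 0 := by
  obtain ⟨D⟩ := exists_cubicData hdim h0 hg hP hn hres
  obtain ⟨i, _, hi, u, w, hu, hw, hG⟩ := D.exists_embedding hdim h0 hg
  obtain ⟨G, hG0, hGp⟩ := exists_cubic i hi hdim hg
  have hev := (hG G).1 (hGp ▸ Ideal.mem_span_singleton_self _)
  let ι := stalkConst k P
  let gb := X.presheaf.germ D.W P D.mem D.b
  let π := X.presheaf.germ D.W P D.mem D.π
  obtain ⟨ga', hga'⟩ : ∃ a' : X.presheaf.stalk P, a' * gb = X.presheaf.germ D.W P D.mem D.a :=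
    ⟨X.presheaf.germ D.W P D.mem D.a * ↑D.unit_b.unit⁻¹, by rw [mul_assoc, IsUnit.val_inv_mul, mul_one]⟩
  obtain ⟨b', hb'⟩ : ∃ b' : X.presheaf.stalk P, b' * gb = 1 := ⟨↑D.unit_b.unit⁻¹, D.unit_b.val_inv_mul⟩
  have hu' : u = π * ga' := by linear_combination (-(u - π * ga')) * hb' + b' * hu - b' * π * hga'
  have hw' : w = π ^ 3 * b' := by linear_combination (-(w - π ^ 3 * b')) * hb' + b' * hw - b' * π ^ 3 * hb'
  have hπm : ¬ IsUnit π := fun h => h.map (RingHom.id _) |> fun h' =>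
    (show π ∈ IsLocalRing.maximalIdeal (X.presheaf.stalk P) from D.span_π ▸ Ideal.mem_span_singleton_self _) h'
  have hπ0 : π ≠ 0 := fun h => by
    have hπ := D.span_π
    rw [show X.presheaf.germ D.W P D.mem D.π = 0 from h, Ideal.span_singleton_zero] at hπ
    have h1 := stalk_dim_eq_one hdim hP
    rw [ringKrullDim_eq_zero_of_isField (IsLocalRing.isField_iff_maximalIdeal_eq.2 hπ)] at h1
    exact zero_ne_one h1
  have hga : IsUnit ga' := isUnit_of_mul_isUnit_left (hga' ▸ D.unit_a)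
  have hb : IsUnit b' := IsUnit.of_mul_eq_one _ hb'
  obtain ⟨p, q, r, s, t, o, v, c, x, y, hGe⟩ := cubic_eq G.1 G.2
  have hev' : ι p * u ^ 3 + ι q * u ^ 2 + ι r * u ^ 2 * w + ι s * u + ι t * u * w + ι o * u * w ^ 2 +
      ι v + ι c * w + ι x * w ^ 2 + ι y * w ^ 3 = 0 := by
    rw [hGe] at hev
    simp only [MvPolynomial.eval₂_add, MvPolynomial.eval₂_mul, MvPolynomial.eval₂_pow, MvPolynomial.eval₂_C,
      MvPolynomial.eval₂_X, Matrix.cons_val_zero, Matrix.cons_val_one, Matrix.cons_val, one_pow, mul_one] at hev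
    exact hev
  rw [hu', hw'] at hev'
  obtain ⟨rfl, rfl, rfl, hzero⟩ := cubic_coeff ι hπm hπ0 hga hb hev'
  have hne : p ≠ 0 ∧ c ≠ 0 := by
    by_contra hcon
    rw [not_and_or, not_not, not_not] at hcon
    obtain ⟨rfl, rfl, rfl, rfl, rfl, rfl, rfl⟩ := hzero hcon
    exact hG0 (Subtype.ext (hGe.trans (by simp)))
  -- rescale
  obtain ⟨α, hα⟩ : ∃ α : k, α = -c / p := ⟨_, rfl⟩
  have hα0 : α ≠ 0 := hα ▸ div_ne_zero (neg_ne_zero.2 hne.2) hne.1
  let D' := D.scale α⁻¹ (inv_ne_zero hα0)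
  obtain ⟨j, _, hj, u', w', hu₁, hw₁, hG'⟩ := D'.exists_embedding hdim h0 hg
  have hinv : ι α⁻¹ * ι α = 1 := by rw [← map_mul, inv_mul_cancel₀ hα0, map_one]
  have hgl : X.presheaf.germ D.W P D.mem (EmbLib24.gl (X ↘ Spec (CommRingCat.of k)) D.W α⁻¹) = ι α⁻¹ :=
    germ_gl_eq D.mem _
  have hu₂ : u' * (ι α⁻¹ * gb) = ι α⁻¹ * X.presheaf.germ D.W P D.mem D.a * π := by
    rw [← hgl, ← map_mul, ← map_mul]; exact hu₁
  have hw₂ : w' * (ι α⁻¹ * gb) = π ^ 3 := by rw [← hgl, ← map_mul]; exact hw₁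
  have huu : u' = π * ga' := by
    linear_combination (ι α * b') * hu₂ - (u' * b' * gb) * hinv - u' * hb' - b' * π * hga' +
      (b' * X.presheaf.germ D.W P D.mem D.a * π) * hinv + (π * ga') * hb'
  have hww : w' = ι α * (π ^ 3 * b') := by
    linear_combination (ι α * b') * hw₂ - (w' * b' * gb) * hinv - w' * hb'
  let a₁ := t / c
  let a₃ := x / (c * α)
  let a₂ := -r / c
  let a₄ := -o / (c * α)
  let a₆ := -y / (c * α ^ 2)
  let Wp : MvPolynomial (Fin (2 + 1)) k := MvPolynomial.X 1 ^ 2 * MvPolynomial.X 2 + MvPolynomial.C a₁ * MvPolynomial.X 0 * MvPolynomial.X 1 * MvPolynomial.X 2 + MvPolynomial.C a₃ * MvPolynomial.X 1 * MvPolynomial.X 2 ^ 2 - MvPolynomial.X 0 ^ 3 - MvPolynomial.C a₂ * MvPolynomial.X 0 ^ 2 * MvPolynomial.X 2 - MvPolynomial.C a₄ * MvPolynomial.X 0 * MvPolynomial.X 2 ^ 2 - MvPolynomial.C a₆ * MvPolynomial.X 2 ^ 3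
  have hWh : Wp ∈ CohB1.polyGrading 2 k 3 := by
    have hX : ∀ l, (MvPolynomial.X l : MvPolynomial (Fin (2 + 1)) k).IsHomogeneous 1 :=
      fun l => MvPolynomial.isHomogeneous_X k l
    have hC : ∀ z : k, (MvPolynomial.C z : MvPolynomial (Fin (2 + 1)) k).IsHomogeneous 0 :=
      fun z => MvPolynomial.isHomogeneous_C _ z
    exact ((((((((hX 1).pow 2).mul (hX 2)).add ((((hC a₁).mul (hX 0)).mul (hX 1)).mul (hX 2))).add
      (((hC a₃).mul (hX 1)).mul ((hX 2).pow 2))).sub ((hX 0).pow 3)).sub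
      (((hC a₂).mul ((hX 0).pow 2)).mul (hX 2))).sub (((hC a₄).mul (hX 0)).mul ((hX 2).pow 2))).sub
      ((hC a₆).mul ((hX 2).pow 3))
  let W : LefPen.Form 2 k 3 := ⟨Wp, hWh⟩
  refine ⟨D', a₁, a₂, a₃, a₄, a₆, W, rfl, ?_⟩
  refine D'.evalAt_eq_zero hu₁ hw₁ W ?_
  show MvPolynomial.eval₂ (stalkConst k P) ![u', 1, w'] Wp = 0
  simp only [Wp, MvPolynomial.eval₂_add, MvPolynomial.eval₂_sub, MvPolynomial.eval₂_mul,
    MvPolynomial.eval₂_pow, MvPolynomial.eval₂_C, MvPolynomial.eval₂_X, Matrix.cons_val_zero,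
    Matrix.cons_val_one, Matrix.cons_val, one_pow, mul_one, one_mul]
  rw [huu, hww]
  have hc0 : ι c ≠ 0 := ((IsUnit.mk0 c hne.2).map ι).ne_zero
  have k1 : ι a₁ * ι c = ι t := by rw [← map_mul, div_mul_cancel₀ _ hne.2]
  have k2 : ι a₂ * ι c = -ι r := by rw [← map_mul, div_mul_cancel₀ _ hne.2, map_neg]
  have k3 : ι a₃ * (ι c * ι α) = ι x := by
    rw [← map_mul, ← map_mul, div_mul_cancel₀ _ (mul_ne_zero hne.2 hα0)]
  have k4 : ι a₄ * (ι c * ι α) = -ι o := by
    rw [← map_mul, ← map_mul, div_mul_cancel₀ _ (mul_ne_zero hne.2 hα0), map_neg]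
  have k6 : ι a₆ * (ι c * ι α ^ 2) = -ι y := by
    rw [← map_pow, ← map_mul, ← map_mul, div_mul_cancel₀ _ (mul_ne_zero hne.2 (pow_ne_zero 2 hα0)), map_neg]
  have k0 : ι α * ι p = -ι c := by rw [← map_mul, hα, div_mul_cancel₀ _ hne.1, map_neg]
  simp only [map_zero, zero_mul, add_zero] at hev'
  refine (mul_eq_zero.1 (show ι c * _ = 0 from ?_)).resolve_left hc0
  linear_combination ι α * hev' + (ι α * (π * ga') * (π ^ 3 * b')) * k1 + (ι α * (π ^ 3 * b') ^ 2) * k3
    - (ι α * (π * ga') ^ 2 * (π ^ 3 * b')) * k2 - (ι α * (π * ga') * (π ^ 3 * b') ^ 2) * k4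
    - (ι α * (π ^ 3 * b') ^ 3) * k6 - (π * ga') ^ 3 * k0

theorem exists_weierstrass [GeometricallyIntegral (X ↘ Spec (CommRingCat.of k))]
    (hdim : topologicalKrullDim X = 1)
    (h0 : Module.finrank k (Coh.HH X (Coh.structureModule X) 0) = 1) (hg : Curv2.genus k X = 1)
    (hP : IsClosed ({P} : Set X)) (hn : IsIntegrallyClosed (X.presheaf.stalk P))
    (hres : letI := Curv2.resAlgebra k X P; Module.finrank k (X.residueField P) = 1) :
    ∃ (a₁ a₂ a₃ a₄ a₆ : k) (W : LefPen.Form 2 k 3),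
      (W : MvPolynomial (Fin (2 + 1)) k) = MvPolynomial.X 1 ^ 2 * MvPolynomial.X 2 + MvPolynomial.C a₁ * MvPolynomial.X 0 * MvPolynomial.X 1 * MvPolynomial.X 2 + MvPolynomial.C a₃ * MvPolynomial.X 1 * MvPolynomial.X 2 ^ 2 - MvPolynomial.X 0 ^ 3 - MvPolynomial.C a₂ * MvPolynomial.X 0 ^ 2 * MvPolynomial.X 2 - MvPolynomial.C a₄ * MvPolynomial.X 0 * MvPolynomial.X 2 ^ 2 - MvPolynomial.C a₆ * MvPolynomial.X 2 ^ 3 ∧
      ∃ e : X ≅ (LefPen.hypIdeal W).subscheme,
        e.hom ≫ (LefPen.hypIdeal W).subschemeι ≫ CohB1.ProjSpace.toSpec 2 k = X ↘ (Spec (CommRingCat.of k)) := by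
  obtain ⟨D, a₁, a₂, a₃, a₄, a₆, W, hWe, hW⟩ := exists_weierstrass_data hdim h0 hg hP hn hres
  refine ⟨a₁, a₂, a₃, a₄, a₆, W, hWe, D.exists_iso hdim h0 hg W (fun h => ?_) hW⟩
  have h' := congrArg (MvPolynomial.eval ![1, 0, 0]) (hWe.symm.trans h)
  simp at h'

end Groth.Agent.LefPen24
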